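import Cfsg.Agent.H41.BrauerCharacters
import Cfsg.Agent.H42.BlockSpan
import Cfsg.Agent.H40.CoeffSums

/-!
# Irreducible Brauer characters of a block

The class functions dual to the decomposition numbers are integral combinations of the ordinary
characters on regular elements; the points met by a block carry degrees divisible by every common
divisor of the degrees of the block.
-/

set_option autoImplicit false
set_option linter.unusedSectionVars false

namespace Cfsg.Agent.H41.BrauerChar

open Cfsg (IrrCharacter IsPPart)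
open Cfsg.Agent.H41 (ResField localRing res)
open Cfsg.Agent.H40 (trAt trBar redG ofFun)
open Cfsg.Agent.H22.AlgPoints (Point ptr pointOf)
open scoped ComplexConjugate

universe u

variable {G : Type u} [Group G] [Fintype G] {p : ℕ} [Fact p.Prime] {M : Ideal Cfsg.AlgInt}
  [M.IsMaximal]

section Setting

variable [IsAlgClosed (ResField M)] [CharP (ResField M) p]
  [FiniteDimensional (ResField M) (MonoidAlgebra (ResField M) G)]
  [Fintype (Point (MonoidAlgebra (ResField M) G))] [DecidableEq (Pt M G)]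
  (hM : Cfsg.IsPModular p M)

/-- The left inverse of the decomposition matrix. -/
noncomputable def linv : Pt M G → IrrCharacter G → ℂ := (exists_leftInverse_dec hM).choose

theorem linv_spec (c c' : Pt M G) :
    ∑ χ, linv hM c χ * (dec hM χ c' : ℂ) = if c = c' then 1 else 0 :=
  (exists_leftInverse_dec hM).choose_spec c c'

/-- The class function dual to a column of the decomposition matrix. -/
noncomputable def phi (c : Pt M G) (g : G) : ℂ := ∑ χ, linv hM c χ * (χ : G → ℂ) g

include hM in
/-- A combination of decomposition numbers determines its coefficients. -/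
theorem coeff_unique {a : IrrCharacter G → ℂ} {m : Pt M G → ℂ}
    (h : ∀ χ, a χ = ∑ c, m c * (dec hM χ c : ℂ)) (c : Pt M G) :
    ∑ χ, linv hM c χ * a χ = m c := by
  simp only [h, Finset.mul_sum]
  rw [Finset.sum_comm, Finset.sum_congr rfl fun c' _ => show _ = m c' * (if c = c' then 1 else 0) by
    rw [← linv_spec hM c c', Finset.mul_sum]
    exact Finset.sum_congr rfl fun χ _ => by ring]
  simp

theorem phi_eq_of {s : G} {f : Pt M G → localRing M}
    (hf : ∀ χ : IrrCharacter G, (χ : G → ℂ) s = ∑ c, (dec hM χ c : ℂ) * (f c : ℂ)) (c : Pt M G) :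
    phi hM c s = f c :=
  coeff_unique hM (fun χ => (hf χ).trans (Finset.sum_congr rfl fun _ _ => mul_comm _ _)) c

theorem irr_eq_sum_phi {s : G} (hs : ¬ p ∣ orderOf s) (χ : IrrCharacter G) :
    (χ : G → ℂ) s = ∑ c, (dec hM χ c : ℂ) * phi hM c s := by
  obtain ⟨f, hf, -⟩ := exists_phi hM hs
  rw [hf χ]
  exact Finset.sum_congr rfl fun c _ => by rw [phi_eq_of hM hf]

theorem phi_indep {z : Pt M G → ℂ}
    (hz : ∀ s : G, ¬ p ∣ orderOf s → ∑ c, z c * phi hM c s = 0) : z = 0 := by
  classical
  choose f hf hf' using fun s : {s : G // ¬ p ∣ orderOf s} => exists_phi hM s.2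
  refine eq_zero_of_phi hM (fun s c => if h : ¬ p ∣ orderOf s then f ⟨s, h⟩ c else 0)
    (fun s hs c => by rw [dif_pos hs]; exact hf' ⟨s, hs⟩ c) fun s hs => ?_
  rw [← hz s hs]
  exact Finset.sum_congr rfl fun c _ => by rw [dif_pos hs, phi_eq_of hM (hf ⟨s, hs⟩)]

/-- The regular part of an element. -/
noncomputable def regPart (p : ℕ) [Fact p.Prime] (g : G) : G := (H22.pp p g)⁻¹ * g

theorem regPart_eq {g x : G} (h : IsPPart p g x) : regPart p g = x⁻¹ * g := by
  rw [regPart, H22.pp_eq h]

theorem regPart_of_regular {s : G} (hs : ¬ p ∣ orderOf s) : regPart p s = s := by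
  rw [regPart_eq (x := 1) ⟨s, one_mul s, Commute.one_left s, ⟨0, by simp⟩, hs⟩, inv_one, one_mul]

theorem regPart_conj (g h : G) : regPart p (h * g * h⁻¹) = h * regPart p g * h⁻¹ := by
  obtain ⟨y, hy, hc, ⟨j, hj⟩, hr⟩ := H22.isPPart_pp p g
  have h1 : IsPPart p (h * g * h⁻¹) (h * H22.pp p g * h⁻¹) := by
    refine ⟨h * y * h⁻¹, ?_, ?_, ⟨j, ?_⟩, ?_⟩
    · conv_rhs => rw [← hy]
      group
    · exact hc.map (MulAut.conj h).toMonoidHom
    · rw [← hj]; exact (MulAut.conj h).orderOf_eq _
    · rwa [show h * y * h⁻¹ = MulAut.conj h y from rfl, MulEquiv.orderOf_eq]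
  rw [regPart_eq h1, regPart]
  group

include hM in
/-- The mean of a dual function against a linear character of a nilpotent subgroup. -/
theorem exists_int_mean (c : Pt M G) {H : Subgroup G} [Fintype H] [Group.IsNilpotent H]
    (l : H →* ℂˣ) :
    ∃ z : ℤ, (Nat.card H : ℂ)⁻¹ * ∑ x : H, (l x : ℂ) * phi hM c (regPart p (x : G)) = z := by
  classical
  obtain ⟨U, S, hUE, hSE, hU, hS, hSU, hbij⟩ := H22.exists_nilpotent_split H p
  haveI := Fintype.ofFinite U
  haveI := Fintype.ofFinite S
  let lU : U →* ℂˣ := l.comp (Subgroup.inclusion hUE)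
  let lS : S →* ℂˣ := l.comp (Subgroup.inclusion hSE)
  have hcard : Nat.card H = Nat.card U * Nat.card S := by
    rw [← Nat.card_eq_of_bijective _ hbij, Nat.card_prod]
  have hsum : ∑ x : H, (l x : ℂ) * phi hM c (regPart p (x : G)) =
      (∑ a : U, (lU a : ℂ)) * ∑ s : S, (lS s : ℂ) * phi hM c s := by
    rw [Finset.sum_mul_sum, ← Fintype.sum_prod_type']
    refine (Fintype.sum_bijective _ hbij _ _ fun z => ?_).symm
    rw [regPart_eq (H22.isPPart_mul_of_mem hU hS hSU z.1 z.2), inv_mul_cancel_left,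
      show (⟨(z.1 : G) * z.2, mul_mem (hUE z.1.2) (hSE z.2.2)⟩ : H) =
        Subgroup.inclusion hUE z.1 * Subgroup.inclusion hSE z.2 from rfl, map_mul, Units.val_mul]
    show (l (Subgroup.inclusion hUE z.1) : ℂ) * ((l (Subgroup.inclusion hSE z.2) : ℂ) * _) = _
    ring
  obtain ⟨m, hm, -⟩ := exists_mult hM (e := redG M G (linElem hM hS lS))
    (by rw [← map_mul, linElem_mul_self])
  have hmean : (Nat.card S : ℂ)⁻¹ * ∑ s : S, (lS s : ℂ) * phi hM c s = m c := by
    rw [← coeff_unique hM (fun χ : IrrCharacter G => (trBar_red hM (χ := χ)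
      (linElem_mul_self hM hS lS)).symm.trans (hm χ)) c]
    simp only [trAt_linElem hM hS lS, phi, Finset.mul_sum]
    rw [Finset.sum_comm]
    exact Finset.sum_congr rfl fun _ _ => Finset.sum_congr rfl fun _ _ => by ring
  rw [hsum, hcard, Nat.cast_mul, mul_inv]
  rw [show ∀ a b x y : ℂ, a * b * (x * y) = a * x * (b * y) from fun a b x y => by ring, hmean,
    show (∑ a : U, (lU a : ℂ)) = ∑ a : U, ((Units.coeHom ℂ).comp lU) a from rfl, sum_hom_units]
  split_ifs
  · exact ⟨m c, by rw [← Nat.card_eq_fintype_card,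
      inv_mul_cancel₀ (Nat.cast_ne_zero.2 Nat.card_pos.ne'), one_mul, Int.cast_natCast]⟩
  · exact ⟨0, by simp⟩

include hM in
/-- The dual functions are integral combinations of irreducible characters on regular elements. -/
theorem exists_int_phi (c : Pt M G) : ∃ z : IrrCharacter G → ℤ,
    ∀ s : G, ¬ p ∣ orderOf s → phi hM c s = ∑ χ, (z χ : ℂ) * (χ : G → ℂ) s := by
  classical
  set ψ : G → ℂ := fun g => phi hM c (regPart p g) with hψ
  have hcl : Cfsg.IsClassFunction G ψ := fun g h => by
    simp only [hψ, regPart_conj, phi, H26.irr_conj]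
  let A : AddSubgroup (G → ℂ) :=
    { carrier := {F | ∃ z : ℤ, (Nat.card G : ℂ)⁻¹ * ∑ g : G, F g = z}
      zero_mem' := ⟨0, by simp⟩
      add_mem' := by
        rintro F F' ⟨a, ha⟩ ⟨b, hb⟩
        exact ⟨a + b, by simp only [Pi.add_apply, Finset.sum_add_distrib, mul_add, ha, hb, Int.cast_add]⟩
      neg_mem' := by
        rintro F ⟨a, ha⟩
        exact ⟨-a, by simp only [Pi.neg_apply, Finset.sum_neg_distrib, mul_neg, ha, Int.cast_neg]⟩ }
  have hint : ∀ χ : IrrCharacter G, ∃ z : ℤ, Cfsg.classInner ψ (χ : G → ℂ) = z := by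
    intro χ
    have hmem : (fun g => ψ g * conj ((χ : G → ℂ) g)) ∈ A := by
      refine H39.classFun_induction_elementary G A _ (fun g h => ?_) fun E q φ hq hE => ?_
      · show _ * _ = _ * _
        rw [hcl g h, H26.irr_conj]
      haveI : Fintype E := Fintype.ofFinite E
      haveI := H27.isNilpotent_of_isElementary hq hE
      have h1 := H25.classInner_indFun_left E
        (fun e => (φ e : ℂ) * (ψ e * conj ((χ : G → ℂ) e))) (fun _ => 1) (fun _ _ => rfl)
      simp only [Cfsg.classInner, map_one, mul_one] at h1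
      show ∃ z : ℤ, (Nat.card G : ℂ)⁻¹ * _ = z
      rw [h1]
      have hF : Cfsg.IsCharacter E fun e : E => (φ e : ℂ) * conj ((χ : G → ℂ) e) :=
        H26.isCharacter_mul (H26.isCharacter_of_irr (H26.isIrrCharacter_hom φ))
          (H26.isCharacter_comp (H26.irr_isCharacter (H26.conjIrr χ)) E.subtype)
      have hβ : ∀ β : IrrCharacter E, ∃ z : ℤ,
          (Nat.card E : ℂ)⁻¹ * ∑ e : E, (β : E → ℂ) e * ψ e = z := by
        intro β
        obtain ⟨H, l, hl⟩ := H27.nilpotent_monomial _ E le_rfl β.1 β.2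
        haveI : Fintype H := Fintype.ofFinite H
        let H' : Subgroup G := H.map E.subtype
        let e : H ≃* H' := H.equivMapOfInjective E.subtype E.subtype_injective
        haveI : Fintype H' := Fintype.ofFinite H'
        haveI : Group.IsNilpotent H' := Group.nilpotent_of_mulEquiv e
        obtain ⟨z, hz⟩ := exists_int_mean hM c (l.comp e.symm.toMonoidHom)
        refine ⟨z, ?_⟩
        have h2 := H25.classInner_indFun_left H (fun h => (l h : ℂ)) (fun e : E => conj (ψ e))
          (fun g h => by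
            show conj _ = conj _
            exact congrArg conj (hcl (g : G) (h : G)))
        simp only [Cfsg.classInner, Complex.conj_conj] at h2
        rw [hl, h2, ← hz, Nat.card_congr e.toEquiv]
        congr 1
        refine Fintype.sum_equiv e.toEquiv _ _ fun h => ?_
        simp only [MonoidHom.coe_comp, Function.comp_apply, MulEquiv.coe_toMonoidHom]
        rw [show e.toEquiv h = e h from rfl, e.symm_apply_apply]
        rfl
      choose zb hzb using hβ
      refine ⟨∑ β, (H43.mult (fun e : E => (φ e : ℂ) * conj ((χ : G → ℂ) e)) β : ℤ) * zb β, ?_⟩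
      push_cast
      simp only [← hzb, Finset.mul_sum]
      rw [Finset.sum_comm]
      refine Finset.sum_congr rfl fun e _ => ?_
      have h3 := congrFun (H43.eq_sum_mult hF) e
      simp only [Finset.sum_apply, Pi.smul_apply, smul_eq_mul] at h3
      rw [show (φ e : ℂ) * (ψ e * conj ((χ : G → ℂ) e)) =
        ((φ e : ℂ) * conj ((χ : G → ℂ) e)) * ψ e by ring, h3, Finset.sum_mul, Finset.mul_sum]
      exact Finset.sum_congr rfl fun β _ => by ring
    exact hmem
  choose z hz using hint
  refine ⟨z, fun s hs => ?_⟩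
  have h := congrFun (H26.class_function_expansion ψ hcl) s
  simp only [Finset.sum_apply, Pi.smul_apply, smul_eq_mul, hz] at h
  rw [← h]
  show _ = phi hM c (regPart p s)
  rw [regPart_of_regular hs]

theorem int_phi_dec {c : Pt M G} {z : IrrCharacter G → ℤ}
    (hz : ∀ s : G, ¬ p ∣ orderOf s → phi hM c s = ∑ χ, (z χ : ℂ) * (χ : G → ℂ) s) (c' : Pt M G) :
    ∑ χ, (z χ : ℂ) * (dec hM χ c' : ℂ) = if c = c' then 1 else 0 := by
  have h := phi_indep hM (z := fun c' =>
    (∑ χ, (z χ : ℂ) * (dec hM χ c' : ℂ)) - if c = c' then 1 else 0) fun s hs => by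
    simp only [sub_mul, Finset.sum_sub_distrib, ite_mul, one_mul, zero_mul, Finset.sum_ite_eq,
      Finset.mem_univ, if_true, Finset.sum_mul, sub_eq_zero]
    rw [Finset.sum_comm, hz s hs]
    refine Finset.sum_congr rfl fun χ _ => ?_
    rw [irr_eq_sum_phi hM hs χ, Finset.mul_sum]
    exact Finset.sum_congr rfl fun _ _ => by ring
  exact sub_eq_zero.1 (congrFun h c')

theorem trAt_one_one (χ : IrrCharacter G) :
    trAt (M := M) (1 : G) (χ : G → ℂ) 1 = (χ : G → ℂ) 1 := by
  classical
  simp only [trAt, MonoidAlgebra.one_def, mul_one]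
  rw [Finset.sum_eq_single (1 : G)]
  · simp
  · intro g _ hg
    simp [Finsupp.single_apply, Ne.symm hg]
  · simp

/-- The degree of the simple module at a point. -/
noncomputable def deg (hM : Cfsg.IsPModular p M) (c : Pt M G) : ℕ :=
  (exists_mult hM (e := (1 : MonoidAlgebra (ResField M) G)) (one_mul 1)).choose c

theorem charDegree_eq_sum (χ : IrrCharacter G) :
    Cfsg.charDegree (χ : G → ℂ) = ∑ c, deg hM c * dec hM χ c := by
  have h := (exists_mult hM (e := (1 : MonoidAlgebra (ResField M) G)) (one_mul 1)).choose_spec.1 χ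
  have h1 : trBar (M := M) (1 : G) (χ : G → ℂ) 1 = (Cfsg.charDegree (χ : G → ℂ) : ℂ) := by
    rw [← map_one (redG M G), trBar_red hM (one_mul 1), trAt_one_one, H42.irr_one_eq]
  rw [h1] at h
  exact_mod_cast h

theorem deg_pos (c : Pt M G) : 0 < deg hM c := by
  classical
  have hsub : (1 - c.out.1) * (1 - c.out.1) = 1 - c.out.1 := by
    rw [sub_mul, mul_sub, mul_sub, one_mul, one_mul, mul_one, c.out.2.idem, sub_self, sub_zero]
  obtain ⟨m, hm, -⟩ := exists_mult hM hsub
  have h1 := coeff_unique hM (a := fun χ => trBar (M := M) (1 : G) (χ : G → ℂ) 1)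
    (m := fun c' => (deg hM c' : ℂ))
    (fun χ => (exists_mult hM (e := (1 : MonoidAlgebra (ResField M) G))
      (one_mul 1)).choose_spec.1 χ) c
  have h2 := coeff_unique hM (a := fun χ => trBar (M := M) (1 : G) (χ : G → ℂ) 1)
    (m := fun c' => (m c' : ℂ) + if c' = c then 1 else 0) (fun χ => by
      conv_lhs => rw [← sub_add_cancel (1 : MonoidAlgebra (ResField M) G) c.out.1]
      rw [H40.trBar_add hM orderOf_one_eq (H40.isLocTrace_irr χ) (supp_one _) (supp_one _) hsub
        c.out.2.idem (by rw [sub_mul, one_mul, c.out.2.idem, sub_self])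
        (by rw [mul_sub, mul_one, c.out.2.idem, sub_self]), hm, dec_spec hM]
      simp [add_mul, Finset.sum_add_distrib]) c
  rw [h1, if_pos rfl] at h2
  have : deg hM c = m c + 1 := by exact_mod_cast h2
  omega

section Block

variable {B : Set (IrrCharacter G)} (hB : Cfsg.IsPBlock M B)

/-- The idempotent of a block in the local group algebra. -/
noncomputable def bElem : MonoidAlgebra (localRing M) G :=
  ofFun fun g => ⟨Cfsg.blockCoeff B g, H41.blockCoeff_mem hB g⟩

theorem bElem_mul_self : bElem hB * bElem hB = bElem hB := by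
  refine H40.ext_coeff fun g => Subtype.ext ?_
  rw [H40.coeff_mul_eq_sum]
  simp only [bElem, H40.coeff_ofFun, AddSubmonoidClass.coe_finsetSum, MulMemClass.coe_mul]
  exact H40.sum_blockCoeff_mul_blockCoeff B g

theorem bElem_comm (E : MonoidAlgebra (localRing M) G) : E * bElem hB = bElem hB * E := by
  refine H40.ext_coeff fun g => ?_
  rw [H40.coeff_mul_eq_sum, H40.coeff_mul_eq_sum]
  refine Fintype.sum_equiv ((Equiv.inv G).trans (Equiv.mulLeft g)) _ _ fun y => ?_
  simp only [bElem, H40.coeff_ofFun, Equiv.trans_apply, Equiv.inv_apply, Equiv.coe_mulLeft]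
  rw [show (g * y⁻¹)⁻¹ * g = y by group, mul_comm]
  congr 1
  apply Subtype.ext
  show Cfsg.blockCoeff B (y⁻¹ * g) = Cfsg.blockCoeff B (g * y⁻¹)
  rw [← H40.blockCoeff_conj B (y⁻¹ * g) y, mul_inv_cancel_left]

open scoped Classical in
theorem trAt_mul_bElem (χ : IrrCharacter G) (E : MonoidAlgebra (localRing M) G) :
    trAt 1 (χ : G → ℂ) (E * bElem hB) = if χ ∈ B then trAt 1 (χ : G → ℂ) E else 0 := by
  simp only [trAt, mul_one, H40.coeff_mul_eq_sum, AddSubmonoidClass.coe_finsetSum,
    MulMemClass.coe_mul, Finset.sum_mul]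
  rw [Finset.sum_comm]
  have key : ∀ x : G, ∑ g : G, (E.coeff x : ℂ) * ((bElem hB).coeff (x⁻¹ * g) : ℂ) * (χ : G → ℂ) g =
      (E.coeff x : ℂ) * if χ ∈ B then (χ : G → ℂ) x else 0 := by
    intro x
    rw [← H40.sum_blockCoeff_mul_irr B χ x, Finset.mul_sum]
    refine Fintype.sum_equiv (Equiv.mulLeft x⁻¹) _ _ fun g => ?_
    simp only [bElem, H40.coeff_ofFun, Equiv.coe_mulLeft]
    rw [(H40.isLocTrace_irr (M := M) χ).comm (x⁻¹ * g) x, mul_inv_cancel_left, mul_assoc]
  rw [Finset.sum_congr rfl fun x _ => key x]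
  split_ifs <;> simp

include hM hB in
/-- A point is not met both inside and outside a block. -/
theorem dec_separated {χ ξ : IrrCharacter G} (hχ : χ ∈ B) (hξ : ξ ∉ B) {c : Pt M G}
    (h : dec hM χ c ≠ 0) : dec hM ξ c = 0 := by
  classical
  obtain ⟨E, hE, hEc⟩ := exists_lift c.out.2.idem
  have hEb : E * bElem hB * (E * bElem hB) = E * bElem hB := by
    rw [mul_assoc, ← mul_assoc (bElem hB) E, ← bElem_comm hB E, mul_assoc E (bElem hB) (bElem hB),
      bElem_mul_self hB, ← mul_assoc, hE]
  have hcomm : c.out.1 * redG M G (bElem hB) = redG M G (bElem hB) * c.out.1 := by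
    rw [← hEc, ← map_mul, ← map_mul, bElem_comm]
  have hf : redG M G (E * bElem hB) * redG M G (E * bElem hB) = redG M G (E * bElem hB) := by
    rw [← map_mul, hEb]
  have hin : H22.AlgPoints.InCorner c.out.1 (redG M G (E * bElem hB)) := by
    rw [map_mul, hEc]
    refine ⟨by rw [← mul_assoc, c.out.2.idem], ?_⟩
    rw [mul_assoc, ← hcomm, ← mul_assoc, c.out.2.idem]
  have hv : ∀ η : IrrCharacter G, trBar (M := M) (1 : G) (η : G → ℂ) (redG M G (E * bElem hB)) =
      if η ∈ B then (dec hM η c : ℂ) else 0 := fun η => by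
    rw [trBar_red hM hEb, trAt_mul_bElem, ← trBar_red hM hE, hEc, dec_spec hM]
  rcases c.out.2.prim _ hf hin with h0 | h1
  · have := hv χ
    rw [h0, H40.trBar_zero hM orderOf_one_eq (H40.isLocTrace_irr χ), if_pos hχ] at this
    exact absurd (Nat.cast_eq_zero.1 this.symm) h
  · have := hv ξ
    rw [h1, dec_spec hM, if_neg hξ] at this
    exact_mod_cast this

include hM hB in
open scoped Classical in
/-- The degree of the projective at a point is divisible by the `p`-part of the group order. -/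
theorem pow_dvd_sum_dec (c : Pt M G) :
    p ^ (Nat.card G).factorization p ∣
      ∑ χ ∈ Finset.univ.filter (· ∈ B), dec hM χ c * Cfsg.charDegree (χ : G → ℂ) := by
  set Φ := ∑ χ ∈ Finset.univ.filter (· ∈ B), dec hM χ c * Cfsg.charDegree (χ : G → ℂ) with hΦ
  obtain ⟨E, hE, hEc⟩ := exists_lift c.out.2.idem
  have hr : (Φ : ℂ) = (Nat.card G : ℂ) * ∑ h : G, (E.coeff h : ℂ) * Cfsg.blockCoeff B h⁻¹ := by
    rw [hΦ]
    push_cast
    simp only [← dec_spec hM, ← hEc, trBar_red hM hE, trAt, mul_one, Finset.sum_mul]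
    rw [Finset.sum_comm, Finset.mul_sum]
    refine Finset.sum_congr rfl fun h _ => ?_
    rw [H40.blockCoeff_eq_sum, mul_left_comm ((Nat.card G : ℂ)), mul_inv_cancel_left₀
      (Nat.cast_ne_zero.2 Nat.card_pos.ne'), Finset.mul_sum]
    refine Finset.sum_congr rfl fun χ _ => ?_
    rw [← H26.irr_inv, inv_inv, H42.irr_one_eq]
    ring
  set a := (Nat.card G).factorization p with ha
  by_contra hn
  obtain ⟨v, m, hm, hvm⟩ := Nat.exists_eq_pow_mul_and_not_dvd
    (n := Φ) (fun h => hn (h ▸ dvd_zero _)) p (Fact.out : p.Prime).ne_one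
  have hva : v < a := by
    by_contra hh
    exact hn ((pow_dvd_pow p (not_lt.1 hh)).trans (hvm ▸ dvd_mul_right _ _))
  obtain ⟨k, hk⟩ := Nat.exists_eq_add_of_lt hva
  refine hm (DegWeighted.dvd_of_memLocalIdeal hM ?_)
  have e : (m : ℂ) = (((p ^ k : ℕ) : ℂ) * ((Nat.card G / p ^ a : ℕ) : ℂ) *
      ∑ h : G, (E.coeff h : ℂ) * Cfsg.blockCoeff B h⁻¹) * (p : ℂ) := by
    have hG : Nat.card G = p ^ a * (Nat.card G / p ^ a) :=
      (Nat.mul_div_cancel' (Nat.ordProj_dvd _ _)).symm
    refine mul_left_cancel₀ (pow_ne_zero v (Nat.cast_ne_zero.2 (Fact.out : p.Prime).ne_zero)) ?_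
    rw [← Nat.cast_pow, ← Nat.cast_mul, ← hvm, hr]
    conv_lhs => rw [hG]
    rw [hk]
    push_cast
    ring
  rw [e, ← neg_mul]
  refine H40.memLocalIdeal_mul_left (neg_mem (mul_mem (mul_mem (natCast_mem _ _) (natCast_mem _ _))
    (sum_mem fun h _ => mul_mem (SetLike.coe_mem _) (H41.blockCoeff_mem hB _)))) ?_
  exact ⟨(p : Cfsg.AlgInt), 1, hM.2.2,
    fun h => hM.2.1.ne_top ((Ideal.eq_top_iff_one M).2 h), by simp⟩

include hM hB in
open scoped Classical in
/-- The sum of squared degrees bounds the rank. -/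
theorem rank_bound (g : ℕ) (hg : ∀ χ ∈ B, g ∣ Cfsg.charDegree (χ : G → ℂ)) :
    Cfsg.blockRank p B * (Nat.lcm g (p ^ (Nat.card G).factorization p) * g) ≤
      ∑ χ ∈ Finset.univ.filter (· ∈ B), Cfsg.charDegree (χ : G → ℂ) ^ 2 := by
  set T : Finset (Pt M G) :=
    Finset.univ.filter fun c => ∃ χ, χ ∈ B ∧ dec hM χ c ≠ 0 with hT
  have hout : ∀ χ, χ ∈ B → ∀ c, c ∉ T → dec hM χ c = 0 := fun χ hχ c hc => by
    by_contra h
    exact hc (Finset.mem_filter.2 ⟨Finset.mem_univ _, χ, hχ, h⟩)
  have hrank : Cfsg.blockRank p B ≤ T.card := by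
    rw [Cfsg.blockRank, ← Fintype.card_coe T]
    refine le_trans (Submodule.finrank_mono ?_)
      (finrank_range_le_card (R := ℂ) fun c : T => Cfsg.pRegularPart p (phi hM c.1))
    refine Submodule.span_le.2 ?_
    rintro _ ⟨χ, hχ, rfl⟩
    have : Cfsg.pRegularPart p (χ : G → ℂ) =
        ∑ c : T, (dec hM χ c.1 : ℂ) • Cfsg.pRegularPart p (phi hM c.1) := by
      funext x
      simp only [Finset.sum_apply, Pi.smul_apply, smul_eq_mul, H42.pRegularPart_eq_regRes]
      by_cases hx : p ∣ orderOf x
      · simp [H42.regRes_of_singular hx]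
      · simp only [← H42.pRegularPart_eq_regRes]
        simp only [Cfsg.pRegularPart, Cfsg.IsPRegular, hx, not_false_iff, if_true]
        rw [irr_eq_sum_phi hM hx χ, ← Finset.sum_subset (Finset.subset_univ T)
          (fun c _ hc => by rw [hout χ hχ c hc, Nat.cast_zero, zero_mul])]
        exact (Finset.sum_coe_sort T fun c => (dec hM χ c : ℂ) * phi hM c x).symm
    show Cfsg.pRegularPart p (χ : G → ℂ) ∈ _
    rw [this]
    exact Submodule.sum_mem _ fun c _ => Submodule.smul_mem _ _
      (Submodule.subset_span ⟨c, rfl⟩)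
  have hdeg : ∀ χ, χ ∈ B → Cfsg.charDegree (χ : G → ℂ) = ∑ c ∈ T, deg hM c * dec hM χ c :=
    fun χ hχ => by
      rw [charDegree_eq_sum hM χ]
      exact (Finset.sum_subset (Finset.subset_univ T)
        fun c _ hc => by rw [hout χ hχ c hc, mul_zero]).symm
  have hgd : ∀ c ∈ T, g ∣ deg hM c := by
    intro c hc
    obtain ⟨χ₀, hχ₀, hd0⟩ := (Finset.mem_filter.1 hc).2
    obtain ⟨z, hz⟩ := exists_int_phi hM c
    have h1 : (deg hM c : ℤ) = ∑ χ ∈ Finset.univ.filter (· ∈ B),
        z χ * (Cfsg.charDegree (χ : G → ℂ) : ℤ) := by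
      apply Int.cast_injective (α := ℂ)
      push_cast
      calc (deg hM c : ℂ) = ∑ c' ∈ T, (deg hM c' : ℂ) *
            ∑ χ ∈ Finset.univ.filter (· ∈ B), (z χ : ℂ) * (dec hM χ c' : ℂ) := by
            rw [Finset.sum_eq_single c]
            · rw [Finset.sum_subset (Finset.subset_univ _) (fun χ _ hχ => by
                rw [dec_separated hM hB hχ₀ (by simpa using hχ) hd0, Nat.cast_zero, mul_zero]),
                int_phi_dec hM hz, if_pos rfl, mul_one]
            · intro c' hc' hne
              obtain ⟨χ₁, hχ₁, hd1⟩ := (Finset.mem_filter.1 hc').2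
              rw [Finset.sum_subset (Finset.subset_univ _) (fun χ _ hχ => by
                rw [dec_separated hM hB hχ₁ (by simpa using hχ) hd1, Nat.cast_zero, mul_zero]),
                int_phi_dec hM hz, if_neg (Ne.symm hne), mul_zero]
            · exact fun h => absurd hc h
        _ = _ := by
            simp only [Finset.mul_sum]
            rw [Finset.sum_comm]
            refine Finset.sum_congr rfl fun χ hχ => ?_
            rw [hdeg χ (Finset.mem_filter.1 hχ).2]
            push_cast
            rw [Finset.mul_sum]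
            exact Finset.sum_congr rfl fun _ _ => by ring
    exact Int.natCast_dvd_natCast.1 (h1 ▸ Finset.dvd_sum fun χ hχ =>
      Dvd.dvd.mul_left (Int.natCast_dvd_natCast.2 (hg χ (Finset.mem_filter.1 hχ).2)) _)
  calc Cfsg.blockRank p B * (Nat.lcm g (p ^ (Nat.card G).factorization p) * g)
      ≤ T.card * (Nat.lcm g (p ^ (Nat.card G).factorization p) * g) :=
        Nat.mul_le_mul_right _ hrank
    _ ≤ ∑ c ∈ T, (∑ χ ∈ Finset.univ.filter (· ∈ B),
          dec hM χ c * Cfsg.charDegree (χ : G → ℂ)) * deg hM c := by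
        rw [← smul_eq_mul]
        refine Finset.card_nsmul_le_sum _ _ _ fun c hc => Nat.mul_le_mul ?_ ?_
        · obtain ⟨χ₀, hχ₀, hd0⟩ := (Finset.mem_filter.1 hc).2
          refine Nat.le_of_dvd ?_ (Nat.lcm_dvd (Finset.dvd_sum fun χ hχ =>
            Dvd.dvd.mul_left (hg χ (Finset.mem_filter.1 hχ).2) _) (pow_dvd_sum_dec hM hB c))
          exact Finset.sum_pos' (fun _ _ => Nat.zero_le _) ⟨χ₀, by simpa using hχ₀,
            Nat.mul_pos (Nat.pos_of_ne_zero hd0) (H42.charDegree_pos χ₀)⟩
        · exact Nat.le_of_dvd (deg_pos hM c) (hgd c hc)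
    _ = _ := by
        simp only [Finset.sum_mul]
        rw [Finset.sum_comm]
        refine Finset.sum_congr rfl fun χ hχ => ?_
        rw [sq, Finset.sum_congr rfl fun c _ => show _ =
          Cfsg.charDegree (χ : G → ℂ) * (deg hM c * dec hM χ c) by ring, ← Finset.mul_sum,
          ← hdeg χ (Finset.mem_filter.1 hχ).2]

end Block

end Setting

open scoped Classical in
/-- The sum of squared degrees of a block is at least its regular rank times the product of a
common divisor of the degrees and the least common multiple of that divisor and `|G|_p`. -/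
theorem blockRank_mul_le (hM : Cfsg.IsPModular p M) {B : Set (IrrCharacter G)}
    (hB : Cfsg.IsPBlock M B) (g : ℕ) (hg : ∀ χ ∈ B, g ∣ Cfsg.charDegree (χ : G → ℂ)) :
    Cfsg.blockRank p B * (Nat.lcm g (p ^ (Nat.card G).factorization p) * g) ≤
      ∑ χ ∈ Finset.univ.filter (· ∈ B), Cfsg.charDegree (χ : G → ℂ) ^ 2 := by
  haveI := Cfsg.Agent.H41.IsPModular.charP hM
  haveI := H43.D1.isAlgClosed_resField M
  haveI : FiniteDimensional (ResField M) (MonoidAlgebra (ResField M) G) :=
    Module.Finite.equiv (MonoidAlgebra.coeffLinearEquiv (ResField M)).symm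
  haveI := H22.AlgPoints.finite_point (ResField M) (B := MonoidAlgebra (ResField M) G)
  haveI := Fintype.ofFinite (Point (MonoidAlgebra (ResField M) G))
  exact rank_bound hM hB g hg

end Cfsg.Agent.H41.BrauerChar
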