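import Cfsg.Agent.S4492
import Cfsg.Agent.S0887
import Cfsg.Agent.H26.FRDefect
import Cfsg.Agent.H45.Gallagher
import Cfsg.Agent.H35.PLength
import Cfsg.Agent.H26.CharLinear
import Cfsg.Agent.H44.RelDegreeComponents

/-!
# Heights in blocks of `p`-solvable groups

By the Fong reductions a block has the Sylow subgroups as defect groups and lies over an invariant
character of `O_{p'}(G)`; the degree then has `p`-part at most the index of the preimage of
`Z(O_p(G / O_{p'}(G)))`, which contains the centre of a Sylow subgroup.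
-/

set_option autoImplicit false
set_option linter.unusedSectionVars false

namespace Cfsg.Agent.H41.SolvableHeight

open Cfsg

universe u

/-- The bound over an invariant character of `O_{p'}(G)`. -/
theorem degree_le_of_invariant {G : Type u} [Group G] [Fintype G] (p : ℕ) [hp : Fact p.Prime]
    (hsolv : Cfsg.IsPSolvable p G) (N : Subgroup G) [N.Normal] [Fintype N]
    (hN : N = Cfsg.pPrimeCore p G) (θ : Cfsg.IrrCharacter N)
    (hinv : ∀ g, H41.twistIrr N θ g = θ) (χ : Cfsg.IrrCharacter G)
    (hχ : Cfsg.classInner (fun n : N => (χ : G → ℂ) n) (θ : N → ℂ) ≠ 0) (P : Sylow p G) :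
    (Cfsg.charDegree (χ : G → ℂ)).factorization p ≤
      ((Subgroup.center (P : Subgroup G)).index).factorization p := by
  classical
  haveI := Fintype.ofFinite (G ⧸ N)
  have hn : ¬ p ∣ Nat.card N := by
    rw [hN]
    exact (Nat.Prime.coprime_iff_not_dvd hp.out).1 (H19.pPrimeCore_coprime p).symm
  set Q := Cfsg.pCore p (G ⧸ N) with hQ
  haveI hQn : Q.Normal := H19.pCore_normal p _
  set ZQ := (Subgroup.center Q).map Q.subtype with hZQ
  haveI hZQn : ZQ.Normal := ConjAct.normal_of_characteristic_of_normal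
  set q := QuotientGroup.mk' N with hq
  set A := ZQ.comap q with hA
  haveI hAn : A.Normal := hZQn.comap q
  haveI := Fintype.ofFinite A
  have hNA : N ≤ A := QuotientGroup.le_comap_mk' N _
  have hQp : IsPGroup p Q := H19.pCore_isPGroup p
  obtain ⟨k, hk⟩ := IsPGroup.iff_card.1 (hQp.to_subgroup (Subgroup.center Q))
  have hZcard : Nat.card ZQ = p ^ k := by
    rw [hZQ, Subgroup.card_map_of_injective Q.subtype_injective, hk]
  have hcardA : Nat.card A = Nat.card N * p ^ k := by
    rw [hA, hq, H19.card_comap_mk, hZcard, mul_comm]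
  -- the centre of the Sylow subgroup
  have hhh : Subgroup.centralizer (Q : Set (G ⧸ N)) ≤ Q := by
    subst hN
    exact H35.centralizer_pCore_le_of_isPSolvable (H19.pPrimeCore_quotient_pPrimeCore p)
      (H35.isPSolvable_subgroup
        (H84.isPSolvable_of_surjective q (QuotientGroup.mk'_surjective _) hsolv) _)
  have hQP : Q ≤ (P : Subgroup G).map q := by
    have h := hQp
    intro x hx
    let S := P.mapSurjective (f := q) (QuotientGroup.mk'_surjective N)
    have hsup : IsPGroup p ↥((S : Subgroup (G ⧸ N)) ⊔ Q) :=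
      IsPGroup.to_sup_of_normal_right S.2 hQp
    have := S.3 hsup le_sup_left
    exact (this.le (Subgroup.mem_sup_right hx) :)
  obtain ⟨c, hc⟩ := IsPGroup.iff_card.1 (P.2.to_subgroup (Subgroup.center (P : Subgroup G)))
  have hck : c ≤ k := by
    refine (Nat.pow_le_pow_iff_right hp.out.one_lt).1 ?_
    rw [← hc, ← hk]
    have hmem : ∀ x : Subgroup.center (P : Subgroup G),
        q ((x : (P : Subgroup G)) : G) ∈ Subgroup.centralizer (Q : Set (G ⧸ N)) := by
      intro x
      refine Subgroup.mem_centralizer_iff.2 fun y hy => ?_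
      obtain ⟨z, hz, rfl⟩ := Subgroup.mem_map.1 (hQP hy)
      rw [← map_mul, ← map_mul]
      exact congrArg q (congrArg Subtype.val (Subgroup.mem_center_iff.1 x.2 ⟨z, hz⟩))
    let f : Subgroup.center (P : Subgroup G) → Subgroup.center Q := fun x =>
      ⟨⟨q ((x : (P : Subgroup G)) : G), hhh (hmem x)⟩, Subgroup.mem_center_iff.2 fun y =>
        Subtype.ext (Subgroup.mem_centralizer_iff.1 (hmem x) y.1 y.2)⟩
    refine Nat.card_le_card_of_injective f fun x y h => ?_
    have h1 : q ((x : (P : Subgroup G)) : G) = q ((y : (P : Subgroup G)) : G) :=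
      congrArg (fun z : Subgroup.center Q => ((z : Q) : G ⧸ N)) h
    have h2 : ((x : (P : Subgroup G)) : G)⁻¹ * ((y : (P : Subgroup G)) : G) ∈ N :=
      QuotientGroup.eq.1 h1
    have h3 : ((x : (P : Subgroup G)) : G)⁻¹ * ((y : (P : Subgroup G)) : G) = 1 := by
      have hmP := Subgroup.mul_mem _ (Subgroup.inv_mem _ x.1.2) y.1.2
      obtain ⟨i, hi⟩ := IsPGroup.iff_orderOf.1 P.2 ⟨_, hmP⟩
      rw [Subgroup.orderOf_mk] at hi
      rw [← orderOf_eq_one_iff, hi]
      rcases i with _ | i
      · rfl
      · exact absurd ((dvd_pow_self p i.succ_ne_zero).trans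
          (hi ▸ Subgroup.orderOf_dvd_natCard N h2)) hn
    exact Subtype.ext (Subtype.ext (inv_mul_eq_one.1 h3))
  have hidxP : ((Subgroup.center (P : Subgroup G)).index).factorization p =
      (Nat.card G).factorization p - c := by
    have h := (Subgroup.center (P : Subgroup G)).card_mul_index
    rw [hc, P.card_eq_multiplicity] at h
    have := congrArg (fun m => m.factorization p) h
    simp only [Nat.factorization_mul (pow_ne_zero c hp.out.ne_zero)
      Subgroup.index_ne_zero_of_finite, Finsupp.add_apply, hp.out.factorization_pow,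
      Finsupp.single_eq_same] at this
    omega
  have hidxA : A.index.factorization p + k = (Nat.card G).factorization p := by
    have h := A.card_mul_index
    rw [hcardA] at h
    have := congrArg (fun m => m.factorization p) h
    simp only [Nat.factorization_mul (mul_ne_zero Nat.card_pos.ne' (pow_ne_zero k hp.out.ne_zero))
      Subgroup.index_ne_zero_of_finite, Nat.factorization_mul Nat.card_pos.ne'
      (pow_ne_zero k hp.out.ne_zero), Finsupp.add_apply, hp.out.factorization_pow,
      Finsupp.single_eq_same, Nat.factorization_eq_zero_of_not_dvd hn] at this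
    omega
  -- a constituent on `A` over `θ`
  have hidx : ∃ j, N.relIndex A = p ^ j := ⟨k, Nat.eq_of_mul_eq_mul_left (Nat.card_pos (α := N)) (by
    rw [← hcardA, ← Subgroup.relIndex_bot_left, Subgroup.relIndex_mul_relIndex _ _ _ bot_le hNA,
      Subgroup.relIndex_bot_left])⟩
  obtain ⟨ψ, hψ, hψd⟩ := H32.exists_extension N hn hinv A hNA hidx
  have hχA : Cfsg.IsCharacter A fun a : A => (χ : G → ℂ) a :=
    H26.isCharacter_comp (H26.irr_isCharacter χ) A.subtype
  obtain ⟨μ, hμχ, hμθ⟩ : ∃ μ : Cfsg.IrrCharacter A,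
      H43.mult (fun a : A => (χ : G → ℂ) a) μ ≠ 0 ∧
      H43.mult (fun n : N => (μ : A → ℂ) (Subgroup.inclusion hNA n)) θ ≠ 0 := by
    have h := H43.mult_comp (Subgroup.inclusion hNA) hχA θ
    have h0 : H43.mult (fun n : N => (χ : G → ℂ) n) θ ≠ 0 := fun h0 =>
      hχ ((H43.classInner_eq_mult (φ := fun n : N => (χ : G → ℂ) n)
        (H26.isCharacter_comp (H26.irr_isCharacter χ) N.subtype) θ).trans (by rw [h0, Nat.cast_zero]))
    obtain ⟨μ, -, hμ⟩ := Finset.exists_ne_zero_of_sum_ne_zero (h.symm.trans_ne h0)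
    exact ⟨μ, left_ne_zero_of_mul hμ, right_ne_zero_of_mul hμ⟩
  haveI := Fintype.ofFinite (N.subgroupOf A)
  haveI := Fintype.ofFinite (A ⧸ N.subgroupOf A)
  let e := Subgroup.subgroupOfEquivOfLe hNA
  have hres : (fun x : N.subgroupOf A => (ψ : A → ℂ) x) =
      fun x : N.subgroupOf A => (θ : N → ℂ) (e x) := funext fun x => hψ (e x)
  have hE : Cfsg.IsIrrCharacter (N.subgroupOf A) fun x : N.subgroupOf A => (ψ : A → ℂ) x := by
    rw [hres]; exact H56.isIrrCharacter_comp_equiv θ.2 e
  have hne : Cfsg.classInner (fun x : N.subgroupOf A => (μ : A → ℂ) x)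
      (fun x : N.subgroupOf A => (ψ : A → ℂ) x) ≠ 0 := by
    rw [hres]
    have h1 := H43.classInner_congr e (fun n : N => (μ : A → ℂ) (Subgroup.inclusion hNA n))
      (θ : N → ℂ)
    refine fun h0 => hμθ ?_
    have h2 : (fun x : N.subgroupOf A => (μ : A → ℂ) (Subgroup.inclusion hNA (e x))) =
        fun x : N.subgroupOf A => (μ : A → ℂ) x := rfl
    rw [h2, h0] at h1
    have h3 := (H43.classInner_eq_mult (φ := fun n : N => (μ : A → ℂ) (Subgroup.inclusion hNA n))
      (H26.isCharacter_comp (H26.irr_isCharacter μ) (Subgroup.inclusion hNA)) θ).symm.trans h1.symm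
    exact_mod_cast h3
  obtain ⟨η, hη⟩ := H45.exists_extMul (N.subgroupOf A) ψ hE μ hne
  have hcomm : ∀ a b : A ⧸ N.subgroupOf A, a * b = b * a := by
    intro a b
    induction a using QuotientGroup.induction_on with
    | H a =>
      induction b using QuotientGroup.induction_on with
      | H b =>
        rw [← QuotientGroup.mk_mul, ← QuotientGroup.mk_mul]
        refine QuotientGroup.eq.2 (Subgroup.mem_subgroupOf.2 ?_)
        have ha := Subgroup.mem_comap.1 a.2
        obtain ⟨za, hza, hza'⟩ := Subgroup.mem_map.1 ha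
        obtain ⟨zb, hzb, hzb'⟩ := Subgroup.mem_map.1 (Subgroup.mem_comap.1 b.2)
        refine (QuotientGroup.eq_one_iff _).1 ?_
        show q _ = 1
        push_cast
        rw [map_mul, map_inv, map_mul, map_mul, ← hza', ← hzb', ← map_mul, ← map_mul,
          Subgroup.mem_center_iff.1 hza zb, inv_mul_cancel]
  have hμd : ¬ p ∣ Cfsg.charDegree (μ : A → ℂ) := by
    have h1 := congrFun hη 1
    simp only [H45.extMul, QuotientGroup.mk_one, H26.irr_one_eq_one_of_comm hcomm η, mul_one] at h1
    rwa [show Cfsg.charDegree (μ : A → ℂ) = Cfsg.charDegree (ψ : A → ℂ) by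
      rw [Cfsg.charDegree, Cfsg.charDegree, h1]]
  have hcon : Cfsg.classInner (fun a : A => (χ : G → ℂ) a) (μ : A → ℂ) ≠ 0 := by
    rw [H43.classInner_eq_mult hχA]
    exact_mod_cast hμχ
  obtain ⟨hdvd, hquo⟩ := Cfsg.Agent.S0887.result A (χ : G → ℂ) χ.2 (μ : A → ℂ) μ.2 hcon
    (Cfsg.charDegree (χ : G → ℂ)) (Cfsg.charDegree (μ : A → ℂ)) (H43.irr_charDegree_spec χ)
    (H43.irr_charDegree_spec μ)
  have hle := (Nat.factorization_le_iff_dvd
    (Nat.div_pos (Nat.le_of_dvd (H43.irr_charDegree_pos χ) hdvd) (H43.irr_charDegree_pos μ)).ne'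
    Subgroup.index_ne_zero_of_finite).2 hquo p
  rw [Nat.factorization_div hdvd, Finsupp.tsub_apply,
    Nat.factorization_eq_zero_of_not_dvd hμd, Nat.sub_zero] at hle
  omega

/-- The bound for all blocks, by Fong reduction. -/
theorem height_le (p : ℕ) [hp : Fact p.Prime] (M : Ideal Cfsg.AlgInt) (hM : Cfsg.IsPModular p M) :
    ∀ (n : ℕ) {G : Type u} [Group G] [Fintype G], Nat.card G = n → Cfsg.IsPSolvable p G →
    ∀ B : Set (Cfsg.IrrCharacter G), Cfsg.IsPBlock M B → ∀ P : Subgroup G,
    Cfsg.IsDefectGroup p M B P → ∀ χ ∈ B,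
      Cfsg.blockHeight p B (χ : G → ℂ) ≤ ((Subgroup.center P).index).factorization p := by
  intro n
  induction n using Nat.strong_induction_on with
  | _ n ih =>
  intro G _ _ hG hsolv B hB P hP χ hχ
  classical
  haveI := hM.2.1
  set N := Cfsg.pPrimeCore p G with hNdef
  haveI hNn : N.Normal := H19.pPrimeCore_normal p G
  haveI := Fintype.ofFinite N
  have hn : ¬ p ∣ Nat.card N :=
    (Nat.Prime.coprime_iff_not_dvd hp.out).1 (H19.pPrimeCore_coprime p).symm
  obtain ⟨θ, hθ⟩ := H44.RelGraph.exists_constituent (N := N) χ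
  have hθb : Cfsg.blockOf M (θ : N → ℂ) = {θ} := H40.blockOf_eq_singleton hM θ
    (by rw [Nat.factorization_eq_zero_of_not_dvd hn]; exact Nat.zero_le _)
  set b : Set (Cfsg.IrrCharacter N) := {θ} with hbdef
  have hb : Cfsg.IsPBlock M b := ⟨θ, hθb.symm⟩
  let T : Subgroup G :=
    { carrier := {g | H43.irrConj N g θ = θ}
      one_mem' := Subtype.ext (funext fun m => by simp [H43.irrConj_apply])
      mul_mem' := fun {a c} ha hc => by
        refine Subtype.ext (funext fun m => ?_)
        have h1 := congrArg (fun φ : Cfsg.IrrCharacter N => (φ : N → ℂ) (MulAut.conjNormal c m))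
          (ha : H43.irrConj N a θ = θ)
        have h2 := congrArg (fun φ : Cfsg.IrrCharacter N => (φ : N → ℂ) m)
          (hc : H43.irrConj N c θ = θ)
        simp only [H43.irrConj_apply] at h1 h2 ⊢
        rw [map_mul, MulAut.mul_apply, h1, h2]
      inv_mem' := fun {a} ha => by
        refine Subtype.ext (funext fun m => ?_)
        have h1 := congrArg (fun φ : Cfsg.IrrCharacter N => (φ : N → ℂ) (MulAut.conjNormal a⁻¹ m))
          (ha : H43.irrConj N a θ = θ)
        simp only [H43.irrConj_apply, ← MulAut.mul_apply, ← map_mul, mul_inv_cancel, map_one,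
          MulAut.one_apply] at h1
        simp only [H43.irrConj_apply]
        exact h1.symm }
  have hNT : N ≤ T := by
    intro g hg
    refine Subtype.ext (funext fun m => ?_)
    rw [H43.irrConj_apply, ← H26.irr_conj θ m ⟨g, hg⟩]
    exact congrArg (θ : N → ℂ) (Subtype.ext (by simp))
  have S : H26.FRSetup N M b T := ⟨hb, hNT, fun g => by simp [hbdef]; rfl⟩
  have hcov : ∃ χ' ∈ B, H26.CoversG b χ' := ⟨χ, hχ, θ, rfl, hθ⟩
  by_cases hT : T = ⊤
  · have hinv : ∀ g, H41.twistIrr N θ g = θ := fun g => by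
      have hg : g ∈ T := hT ▸ Subgroup.mem_top g
      refine Subtype.ext (funext fun m => ?_)
      have := congrArg (fun φ : Cfsg.IrrCharacter N => (φ : N → ℂ) m)
        (hg : H43.irrConj N g θ = θ)
      simp only [H43.irrConj_apply] at this
      rw [H41.twistIrr_apply]
      exact (congrArg (θ : N → ℂ) (Subtype.ext (by simp))).trans this
    obtain ⟨B₀, hB₀, hmem, hSyl, hdefP⟩ := Cfsg.Agent.S4492.result p M hM hsolv N hNdef θ
      (fun g m => (H41.twistIrr_apply N θ g m).symm.trans
        (congrArg (fun φ : Cfsg.IrrCharacter N => (φ : N → ℂ) m) (hinv g)))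
    have hBB : B = B₀ := H41.block_eq_of_mem_of_mem hB hB₀ hχ ((hmem χ).2 hθ)
    subst hBB
    obtain ⟨P', rfl⟩ := hdefP P hP
    refine le_trans ?_ (degree_le_of_invariant p hsolv N hNdef θ hinv χ hθ P')
    exact Nat.sub_le _ _
  · haveI := Fintype.ofFinite T
    obtain ⟨B', hB', hcov', hind⟩ := S.induced_surjective hB hcov
    obtain ⟨hdef, hheight⟩ := S.defect_and_heights hM hB' hcov' hind
    obtain ⟨C, hC, -, -, hmemC⟩ := S.exists_induced hB' hcov'
    obtain rfl := H26.FRSetup.induced_unique hind hC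
    obtain ⟨ψ, hψ, hψe⟩ := (hmemC χ).1 hχ
    obtain ⟨χ', hχ', he', hh⟩ := hheight ψ hψ
    obtain rfl : χ' = χ := Subtype.ext (he'.trans hψe.symm)
    obtain ⟨D, hD⟩ := H40.exists_isDefectGroup hM hB'
    have hD' := hdef D hD
    obtain ⟨x, hx⟩ := H40.subConj_defectGroup hM hB hD' hP
    have heq : H23.rconj x (D.map T.subtype) = P := Subgroup.eq_of_le_of_card_ge hx (by
      rw [H23.card_rconj, H40.card_defectGroup hM hB hD', H40.card_defectGroup hM hB hP])
    have hlt : Nat.card T < n := by
      rw [← hG]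
      exact lt_of_le_of_ne (Subgroup.card_le_card_group T)
        fun h => hT (Subgroup.eq_top_of_card_eq T h)
    have h1 := ih (Nat.card T) hlt rfl (H35.isPSolvable_subgroup hsolv T) B' hB' D hD ψ hψ
    rw [hh]
    refine h1.trans (le_of_eq ?_)
    let e₁ : D ≃* (D.map T.subtype : Subgroup G) :=
      D.equivMapOfInjective _ T.subtype_injective
    have hcong : ∀ {X Y : Type u} [Group X] [Group Y], (X ≃* Y) →
        (Subgroup.center X).index = (Subgroup.center Y).index := by
      intro X Y _ _ e
      rw [← Subgroup.index_comap_of_surjective (Subgroup.center Y) (f := e.toMonoidHom) e.surjective]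
      congr 1
      ext z
      simp only [Subgroup.mem_comap, Subgroup.mem_center_iff, MulEquiv.toMonoidHom_eq_coe,
        MonoidHom.coe_coe]
      exact ⟨fun h w => by rw [← e.apply_symm_apply w, ← map_mul, h, map_mul],
        fun h w => e.injective (by rw [map_mul, h, map_mul])⟩
    subst heq
    let e₂ : (D.map T.subtype : Subgroup G) ≃* (H23.rconj x (D.map T.subtype) : Subgroup G) :=
      (D.map T.subtype).equivMapOfInjective (MulAut.conj x⁻¹).toMonoidHom (MulAut.conj x⁻¹).injective
    exact congrArg (fun m => m.factorization p) (hcong (e₁.trans e₂))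

end Cfsg.Agent.H41.SolvableHeight
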