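import Mathlib.GroupTheory.Sylow
import Mathlib.GroupTheory.Subgroup.Centralizer
import Mathlib.Data.ZMod.Basic
import Mathlib.GroupTheory.Perm.Basic

/-!
# Normalisers of homocyclic Sylow 2-subgroups of rank two
-/

set_option autoImplicit false

namespace Cfsg.Agent.H41

variable {G : Type*} [Group G]

/-- An element of order prime to `p` that normalises an abelian `p`-group and centralises its
elements of order dividing `p` centralises it. -/
lemma commute_of_centralizes_omega_one {p : ℕ} (hp : p.Prime) {A : Subgroup G} (hA : IsPGroup p A)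
    (hab : ∀ a ∈ A, ∀ b ∈ A, a * b = b * a) {g : G} {r : ℕ} (hgr : g ^ r = 1)
    (hr : r.Coprime p) (hg : ∀ a ∈ A, g * a * g⁻¹ ∈ A)
    (hfix : ∀ a ∈ A, a ^ p = 1 → g * a * g⁻¹ = a) : ∀ a ∈ A, g * a * g⁻¹ = a := by
  suffices ∀ j, ∀ a ∈ A, a ^ p ^ j = 1 → g * a * g⁻¹ = a by
    intro a ha
    obtain ⟨j, hj⟩ := hA ⟨a, ha⟩
    exact this j a ha (congr_arg Subtype.val hj)
  intro j
  induction j with
  | zero =>
    intro a _ h
    rw [pow_zero, pow_one] at h
    simp [h]
  | succ j ih =>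
    intro a ha h
    have h2 : g * a ^ p * g⁻¹ = a ^ p :=
      ih _ (pow_mem ha p) (by rwa [← pow_mul, ← pow_succ'])
    set t := a⁻¹ * (g * a * g⁻¹) with ht
    have htA : t ∈ A := mul_mem (inv_mem ha) (hg a ha)
    have htp : t ^ p = 1 := by
      rw [ht, (show Commute a⁻¹ (g * a * g⁻¹) from hab _ (inv_mem ha) _ (hg a ha)).mul_pow,
        inv_pow, conj_pow, h2, inv_mul_cancel]
    have hgt := hfix t htA htp
    have hit : ∀ i : ℕ, g ^ i * a * (g ^ i)⁻¹ = a * t ^ i := by
      intro i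
      induction i with
      | zero => simp
      | succ i ihi =>
        have e1 : g * t ^ i * g⁻¹ = t ^ i := by rw [← conj_pow, hgt]
        calc g ^ (i + 1) * a * (g ^ (i + 1))⁻¹ = g * (g ^ i * a * (g ^ i)⁻¹) * g⁻¹ := by
              rw [pow_succ']; group
          _ = g * a * g⁻¹ * (g * t ^ i * g⁻¹) := by rw [ihi]; group
          _ = a * t * t ^ i := by rw [e1, ht]; group
          _ = a * t ^ (i + 1) := by rw [pow_succ', mul_assoc]
    have h3 := hit r
    rw [hgr, inv_one, mul_one, one_mul, left_eq_mul] at h3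
    have : t = 1 := by
      have := pow_gcd_eq_one.2 ⟨h3, htp⟩
      rwa [hr.gcd_eq_one, pow_one] at this
    rw [ht, inv_mul_eq_one] at this
    exact this.symm

lemma double_eq_zero_zmod_two_pow {m : ℕ} (hm : 1 ≤ m) (x : ZMod (2 ^ m)) :
    x + x = 0 ↔ x = 0 ∨ x = ((2 ^ (m - 1) : ℕ) : ZMod (2 ^ m)) := by
  obtain ⟨n, rfl⟩ := Nat.exists_eq_add_of_le hm
  rw [Nat.add_sub_cancel_left]
  have : NeZero (2 ^ (1 + n)) := ⟨pow_ne_zero _ two_ne_zero⟩
  constructor
  · intro h
    rw [← ZMod.natCast_zmod_val x, ← Nat.cast_add, ZMod.natCast_eq_zero_iff, ← two_mul] at h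
    have h' : 2 * 2 ^ n ∣ 2 * x.val := by
      calc 2 * 2 ^ n = 2 ^ (1 + n) := by rw [pow_add, pow_one]
        _ ∣ 2 * x.val := h
    obtain ⟨c, hc⟩ := (Nat.mul_dvd_mul_iff_left two_pos).1 h'
    have hlt : x.val < 2 ^ (1 + n) := ZMod.val_lt x
    rw [hc, Nat.add_comm, pow_succ] at hlt
    have hc2 : c < 2 := Nat.lt_of_mul_lt_mul_left hlt
    interval_cases c
    · left
      rw [← ZMod.natCast_zmod_val x, hc, Nat.mul_zero, Nat.cast_zero]
    · right
      rw [← ZMod.natCast_zmod_val x, hc, Nat.mul_one]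
  · rintro (rfl | rfl)
    · simp
    · rw [← Nat.cast_add, ZMod.natCast_eq_zero_iff, ← two_mul, ← pow_succ', add_comm]

lemma perm_fin_three_of_pow_three : ∀ σ : Equiv.Perm (Fin 3), σ ^ 3 = 1 → σ ≠ 1 →
    (∀ i, σ i ≠ i) ∧ ∀ i j, i = j ∨ σ i = j ∨ σ (σ i) = j := by
  decide

variable [Finite G] (P : Sylow 2 G) {m : ℕ}

/-- The normaliser of a homocyclic Sylow 2-subgroup of rank two induces a group of order one or
three, and in the latter case is transitive and fixed-point-free on its non-trivial elements. -/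
lemma homocyclic_sylow_normalizer (hm : 1 ≤ m)
    (e : (P : Subgroup G) ≃* Multiplicative (ZMod (2 ^ m) × ZMod (2 ^ m))) :
    (Subgroup.centralizer (P : Set G)).relIndex (Subgroup.normalizer (P : Set G)) = 1 ∨
    ((Subgroup.centralizer (P : Set G)).relIndex (Subgroup.normalizer (P : Set G)) = 3 ∧
      (∀ n ∈ Subgroup.normalizer (P : Set G), n ∉ Subgroup.centralizer (P : Set G) →
        ∀ z ∈ (P : Subgroup G), z ≠ 1 → n * z ≠ z * n) ∧
      ∀ s ∈ (P : Subgroup G), ∀ t ∈ (P : Subgroup G), orderOf s = 2 → orderOf t = 2 →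
        IsConj s t) := by
  classical
  have hab : ∀ a ∈ (P : Subgroup G), ∀ b ∈ (P : Subgroup G), a * b = b * a := fun a ha b hb => by
    have : (⟨a, ha⟩ : (P : Subgroup G)) * ⟨b, hb⟩ = ⟨b, hb⟩ * ⟨a, ha⟩ :=
      e.injective (by rw [map_mul, map_mul, mul_comm])
    exact congr_arg Subtype.val this
  have hPC : (P : Subgroup G) ≤ Subgroup.centralizer (P : Set G) := fun a ha b hb => hab b hb a ha
  set N := Subgroup.normalizer (P : Set G)
  set C := (Subgroup.centralizer (P : Set G)).subgroupOf N with hC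
  let I := {x : G // x ∈ (P : Subgroup G) ∧ orderOf x = 2}
  let c : N → I → I := fun n x => ⟨(n : G) * x.1 * (n : G)⁻¹,
    (Subgroup.mem_normalizer_iff.1 n.2 x.1).1 x.2.1, by
      rw [← MulAut.conj_apply, MulEquiv.orderOf_eq]
      exact x.2.2⟩
  let _ : MulAction N I :=
    { smul := c
      one_smul := fun x => Subtype.ext
        (show ((1 : N) : G) * x.1 * ((1 : N) : G)⁻¹ = x.1 by simp)
      mul_smul := fun a b x => Subtype.ext (show ((a * b : N) : G) * x.1 * ((a * b : N) : G)⁻¹ =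
        (a : G) * ((b : G) * x.1 * (b : G)⁻¹) * (a : G)⁻¹ by simp [mul_assoc]) }
  have hI : Nat.card I = 3 := by
    let h2 : ZMod (2 ^ m) := ((2 ^ (m - 1) : ℕ) : ZMod (2 ^ m))
    have hh2 : h2 ≠ 0 := by
      rw [Ne, ZMod.natCast_eq_zero_iff]
      intro hd
      have := Nat.le_of_dvd (Nat.two_pow_pos _) hd
      have : 2 ^ (m - 1) < 2 ^ m := Nat.pow_lt_pow_right (by omega) (by omega)
      omega
    let T : Finset (ZMod (2 ^ m) × ZMod (2 ^ m)) := {(h2, 0), (0, h2), (h2, h2)}
    have hT : T.card = 3 := by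
      rw [Finset.card_insert_of_notMem (by simp [hh2, Ne.symm hh2]),
        Finset.card_insert_of_notMem (by simp [Ne.symm hh2, hh2]), Finset.card_singleton]
    rw [← hT, ← Fintype.card_coe, ← Nat.card_eq_fintype_card]
    refine Nat.card_congr ((Equiv.subtypeSubtypeEquivSubtypeInter _ _).symm.trans ?_)
    refine (e.toEquiv.trans Multiplicative.toAdd).subtypeEquiv fun x => ?_
    rw [Subgroup.orderOf_coe, ← e.orderOf_eq x, orderOf_eq_prime_iff]
    obtain ⟨⟨a, b⟩, hab'⟩ : ∃ w, e x = Multiplicative.ofAdd w := ⟨_, (ofAdd_toAdd (e x)).symm⟩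
    simp only [T, Equiv.trans_apply, MulEquiv.toEquiv_eq_coe, EquivLike.coe_coe, hab',
      toAdd_ofAdd, Finset.mem_insert, Finset.mem_singleton, pow_two, ← ofAdd_add, ne_eq,
      ofAdd_eq_one, Prod.mk_add_mk, Prod.mk_eq_zero, double_eq_zero_zmod_two_pow hm, Prod.mk.injEq]
    change ((a = 0 ∨ a = h2) ∧ (b = 0 ∨ b = h2)) ∧ ¬(a = 0 ∧ b = 0) ↔
      a = h2 ∧ b = 0 ∨ a = 0 ∧ b = h2 ∨ a = h2 ∧ b = h2
    constructor
    · rintro ⟨⟨ha | ha, hb | hb⟩, hne⟩
      · exact absurd ⟨ha, hb⟩ hne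
      · exact Or.inr (Or.inl ⟨ha, hb⟩)
      · exact Or.inl ⟨ha, hb⟩
      · exact Or.inr (Or.inr ⟨ha, hb⟩)
    · rintro (⟨ha, hb⟩ | ⟨ha, hb⟩ | ⟨ha, hb⟩)
      · exact ⟨⟨Or.inr ha, Or.inl hb⟩, fun h => hh2 (ha ▸ h.1)⟩
      · exact ⟨⟨Or.inl ha, Or.inr hb⟩, fun h => hh2 (hb ▸ h.2)⟩
      · exact ⟨⟨Or.inr ha, Or.inr hb⟩, fun h => hh2 (ha ▸ h.1)⟩
  have : Fintype I := Fintype.ofFinite I
  let φ : N →* Equiv.Perm I := MulAction.toPermHom N I
  have hker : φ.ker = C := by
    ext n
    rw [MonoidHom.mem_ker, hC, Subgroup.mem_subgroupOf]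
    constructor
    · intro hn
      obtain ⟨k, r, hr, hkr⟩ := Nat.exists_eq_two_pow_mul_odd (orderOf_pos n).ne'
      have hfix : ∀ a ∈ (P : Subgroup G), a ^ 2 = 1 → (n : G) * a * (n : G)⁻¹ = a := by
        intro a ha ha2
        rcases eq_or_ne a 1 with rfl | ha1
        · simp
        · exact congr_arg Subtype.val
            (Equiv.Perm.ext_iff.1 hn ⟨a, ha, orderOf_eq_prime_iff.2 ⟨ha2, ha1⟩⟩)
      -- the 2-part and the odd part of `n` both centralise `P`
      have hn' : (n : G) ^ 2 ^ k ∈ Subgroup.centralizer (P : Set G) := by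
        intro a ha
        have hfix' : ∀ i : ℕ, ∀ a ∈ (P : Subgroup G), a ^ 2 = 1 →
            (n : G) ^ i * a * ((n : G) ^ i)⁻¹ = a := by
          intro i
          induction i with
          | zero => simp
          | succ i ih =>
            intro a ha ha2
            calc (n : G) ^ (i + 1) * a * ((n : G) ^ (i + 1))⁻¹
                = (n : G) * ((n : G) ^ i * a * ((n : G) ^ i)⁻¹) * (n : G)⁻¹ := by
                  rw [pow_succ']; group
              _ = a := by rw [ih a ha ha2, hfix a ha ha2]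
        have := commute_of_centralizes_omega_one Nat.prime_two P.2 hab
          (g := (n : G) ^ 2 ^ k) (r := r)
          (by rw [← pow_mul, ← hkr, ← Subgroup.orderOf_coe, pow_orderOf_eq_one])
          (Nat.coprime_two_right.2 hr)
          (fun b hb => (Subgroup.mem_normalizer_iff.1 (pow_mem n.2 _) b).1 hb)
          (hfix' _) a ha
        exact (mul_inv_eq_iff_eq_mul.1 this).symm
      have hn2 : (n : G) ^ r ∈ Subgroup.centralizer (P : Set G) := by
        let Q : Sylow 2 N := P.subtype Subgroup.le_normalizer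
        have : (Q : Subgroup N).Normal := by
          rw [show (Q : Subgroup N) = (P : Subgroup G).subgroupOf N from P.coe_subtype _]
          exact Subgroup.normal_in_normalizer
        have := Sylow.unique_of_normal Q this
        obtain ⟨Q', hQ'⟩ := (IsPGroup.of_card (p := 2) (n := (k : ℕ))
          (G := Subgroup.zpowers (n ^ r)) (by
            rw [Nat.card_zpowers, orderOf_pow' n (Nat.pos_of_ne_zero (fun h => by simp [h] at hr)).ne',
              hkr, Nat.gcd_eq_right (Dvd.intro_left _ rfl),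
              Nat.mul_div_cancel _ (Nat.pos_of_ne_zero fun h => by simp [h] at hr)])).exists_le_sylow
        rw [Subsingleton.elim Q' Q] at hQ'
        have := hQ' (Subgroup.mem_zpowers (n ^ r))
        rw [P.coe_subtype, Subgroup.mem_subgroupOf] at this
        exact hPC (by simpa using this)
      obtain ⟨a, b, hab2⟩ : ∃ a b : ℤ, (2 ^ k : ℤ) * a + (r : ℤ) * b = 1 := by
        have h1 : ((2 ^ k : ℕ) : ℤ).gcd r = 1 := by
          rw [Int.gcd_natCast_natCast]
          exact Nat.Coprime.pow_left _ (Nat.coprime_two_left.2 hr)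
        exact ⟨_, _, by simpa using (Int.gcd_eq_gcd_ab ((2 ^ k : ℕ) : ℤ) r).symm.trans (by rw [h1]; rfl)⟩
      have : (n : G) = ((n : G) ^ 2 ^ k) ^ a * ((n : G) ^ r) ^ b := by
        rw [← zpow_natCast, ← zpow_natCast, ← zpow_mul, ← zpow_mul, ← zpow_add]
        push_cast
        rw [hab2, zpow_one]
      rw [this]
      exact mul_mem (zpow_mem hn' a) (zpow_mem hn2 b)
    · intro hn
      ext x
      show (n : G) * x.1 * (n : G)⁻¹ = x.1
      rw [← hn x.1 x.2.1, mul_inv_cancel_right]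
  have hodd : ¬ 2 ∣ (Subgroup.centralizer (P : Set G)).relIndex N := by
    intro hd
    have := hd.trans (Subgroup.relIndex_dvd_of_le_left N hPC)
    exact P.not_dvd_index (this.trans (Subgroup.relIndex_dvd_index_of_le Subgroup.le_normalizer))
  have hdvd : (Subgroup.centralizer (P : Set G)).relIndex N ∣ 6 := by
    have := Subgroup.card_dvd_of_injective (QuotientGroup.kerLift φ)
      (QuotientGroup.kerLift_injective φ)
    rw [← Subgroup.index_eq_card, hker, Nat.card_eq_fintype_card (α := Equiv.Perm I),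
      Fintype.card_perm, ← Nat.card_eq_fintype_card, hI] at this
    exact this
  have hcases : ∀ r : ℕ, r ∣ 6 → ¬ 2 ∣ r → r = 1 ∨ r = 3 := by
    intro r h1 h2
    have := Nat.le_of_dvd (by norm_num) h1
    interval_cases r <;> simp_all
  refine (hcases _ hdvd hodd).imp_right fun hr3 => ⟨hr3, ?_⟩
  let ψ : Equiv.Perm I ≃* Equiv.Perm (Fin 3) := (Finite.equivFinOfCardEq hI).permCongrHom
  have hrot : ∀ n : N, (n : G) ∉ Subgroup.centralizer (P : Set G) →
      (∀ x : I, φ n x ≠ x) ∧ ∀ x y : I, x = y ∨ φ n x = y ∨ φ n (φ n x) = y := by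
    intro n hn
    have hker1 : φ n ≠ 1 := fun h => hn (by
      have : n ∈ φ.ker := h
      rwa [hker, hC, Subgroup.mem_subgroupOf] at this)
    have h3 : (φ n) ^ 3 = 1 := by
      rw [← map_pow, ← MonoidHom.mem_ker, hker]
      have : C.Normal := hker ▸ φ.normal_ker
      rw [← hr3, Subgroup.relIndex, ← hC]
      exact Subgroup.pow_index_mem C n
    obtain ⟨h1, h2⟩ := perm_fin_three_of_pow_three (ψ (φ n)) (by rw [← map_pow, h3, map_one])
      (fun h => hker1 (ψ.injective (h.trans (map_one ψ).symm)))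
    refine ⟨fun x hx => h1 (Finite.equivFinOfCardEq hI x) (by simp [ψ, hx]), fun x y => ?_⟩
    rcases h2 (Finite.equivFinOfCardEq hI x) (Finite.equivFinOfCardEq hI y) with h | h | h
    · exact Or.inl ((Finite.equivFinOfCardEq hI).injective h)
    · exact Or.inr (Or.inl ((Finite.equivFinOfCardEq hI).injective (by simpa [ψ] using h)))
    · exact Or.inr (Or.inr ((Finite.equivFinOfCardEq hI).injective (by simpa [ψ] using h)))
  refine ⟨fun n hnN hnC z hz hz1 hcomm => ?_, fun s hs t ht hs2 ht2 => ?_⟩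
  · obtain ⟨j, hj⟩ := IsPGroup.iff_orderOf.1 P.2 ⟨z, hz⟩
    rw [← Subgroup.orderOf_coe] at hj
    have hj0 : j ≠ 0 := by
      rintro rfl
      exact hz1 (orderOf_eq_one_iff.1 (by simpa using hj))
    have ht : orderOf (z ^ 2 ^ (j - 1)) = 2 := by
      rw [orderOf_pow' _ (pow_ne_zero _ two_ne_zero), hj]
      obtain ⟨i, rfl⟩ := Nat.exists_eq_succ_of_ne_zero hj0
      rw [Nat.succ_sub_one, pow_succ, Nat.gcd_eq_right (Dvd.intro _ rfl),
        Nat.mul_div_cancel_left _ (Nat.two_pow_pos i)]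
    refine (hrot ⟨n, hnN⟩ hnC).1 ⟨_, pow_mem hz _, ht⟩ (Subtype.ext ?_)
    show n * z ^ 2 ^ (j - 1) * n⁻¹ = _
    rw [← conj_pow, hcomm, mul_inv_cancel_right]
  · obtain ⟨n, hn⟩ : ∃ n : N, (n : G) ∉ Subgroup.centralizer (P : Set G) := by
      by_contra hcon
      push Not at hcon
      have : N ≤ Subgroup.centralizer (P : Set G) := fun x hx => hcon ⟨x, hx⟩
      rw [Subgroup.relIndex_eq_one.2 this] at hr3
      omega
    rcases (hrot n hn).2 ⟨s, hs, hs2⟩ ⟨t, ht, ht2⟩ with h | h | h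
    · rw [show s = t from congr_arg Subtype.val h]
    · exact isConj_iff.2 ⟨n, congr_arg Subtype.val h⟩
    · refine isConj_iff.2 ⟨(n : G) * n, ?_⟩
      rw [← (show (n : G) * ((n : G) * s * (n : G)⁻¹) * (n : G)⁻¹ = t from congr_arg Subtype.val h)]
      group

end Cfsg.Agent.H41
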