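import Cfsg.Agent.H41.DegreeWeightedCore
import Cfsg.Agent.H40.BlockSets
import Cfsg.Agent.H40.PPart
import Cfsg.Agent.H42.SameDegree
import Cfsg.Agent.H32.PrincipalGalois
import Cfsg.Agent.H19.PLengthTools
import Cfsg.Agent.H45.Gallagher

/-!
# Irreducible restriction of the principal block to the Sylow normalizer and `p`-length one

If every member of the principal block restricts irreducibly to `N = N_G(P)`, comparing the norm of
`∑ χ(1) χ` on `N` with that of its average over `P` makes the restrictions distinct and yields a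
normal subgroup `R` with `G = R N` whose `p'`-degree members of the principal block are linear.
-/

set_option autoImplicit false
set_option linter.unusedSectionVars false
set_option maxHeartbeats 400000

open scoped ComplexConjugate

namespace Cfsg.Agent.H41.PLengthOne

open Cfsg (IrrCharacter)
open H43 (restrMult)

universe u

variable {G : Type u} [Group G] [Fintype G] {p : ℕ} [hp : Fact p.Prime] {M : Ideal Cfsg.AlgInt}

/-- Averaging an irreducible character over a normal subgroup outside its kernel gives zero. -/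
theorem sum_mul_eq_zero (K : Subgroup G) [K.Normal] [Fintype K] (χ : IrrCharacter G)
    (h : ¬ K ≤ H44.kerOf χ) (g : G) : ∑ k : K, (χ : G → ℂ) (g * k) = 0 := by
  classical
  obtain ⟨n, ρ, hρ, e⟩ := χ.2
  let z : H41.groupAlgCenter ℂ G := H41.centerOfFun (fun x => if x ∈ K then (1 : ℂ) else 0)
    fun x y => if_congr ⟨fun hxy => by
      simpa [mul_assoc] using Subgroup.Normal.conj_mem ‹K.Normal› _ hxy y⁻¹,
      fun hx => Subgroup.Normal.conj_mem ‹K.Normal› _ hx y⟩ rfl rfl
  have hz : ρ.asAlgebraHom (z : MonoidAlgebra ℂ G) = ∑ k : K, ρ (k : G) := by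
    rw [H40.eq_sum_single (z : MonoidAlgebra ℂ G), map_sum]
    simp only [z, H41.coeff_centerOfFun, Representation.asAlgebraHom_single]
    rw [← Finset.sum_subset (Finset.subset_univ (Finset.univ.filter (· ∈ K))) (fun x _ hx => by
      rw [if_neg (by simpa using hx), zero_smul])]
    exact (Finset.sum_subtype (F := (inferInstance : Fintype K)) (Finset.univ.filter (· ∈ K))
      (fun x => by simp) _).trans (Finset.sum_congr rfl fun x _ => by rw [if_pos x.2, one_smul])
  set ω := H41.omegaVal ρ.character (z : MonoidAlgebra ℂ G)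
  have hω : ∑ k : K, ρ (k : G) = ω • LinearMap.id := by rw [← hz, H41.asAlgebraHom_center ρ z]
  by_cases h0 : ω = 0
  · rw [h0, zero_smul] at hω
    rw [← e]
    simp only [Representation.character, map_mul]
    rw [← map_sum, ← Finset.mul_sum, hω, mul_zero, map_zero]
  refine absurd (fun k hk => ?_) h
  have h1 : ρ k * ∑ x : K, ρ (x : G) = ∑ x : K, ρ (x : G) := by
    rw [Finset.mul_sum]
    exact Fintype.sum_equiv (Equiv.mulLeft (⟨k, hk⟩ : K)) _ _ fun x => by
      rw [← map_mul]; rfl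
  rw [hω] at h1
  have h2 : ρ k = LinearMap.id := by
    refine LinearMap.ext fun v => ?_
    have := congrArg (fun f : Module.End ℂ (Fin n → ℂ) => ω⁻¹ • f v) h1
    simpa [smul_smul, h0] using this
  rw [H44.mem_kerOf, ← e, Representation.character, Representation.character, h2, map_one]
  rfl

/-- The quantitative content of the hypothesis. -/
structure Data (p : ℕ) (M : Ideal Cfsg.AlgInt) (P N : Subgroup G) : Prop where
  hM : Cfsg.IsPModular p M
  hP : ∃ S : Sylow p G, (S : Subgroup G) = P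
  hN : N = Subgroup.normalizer (P : Set G)
  hirr : ∀ χ ∈ Cfsg.principalBlock M G, Cfsg.IsIrrCharacter N (fun n : N => (χ : G → ℂ) n)

variable {P N : Subgroup G}

theorem Data.le (D : Data p M P N) : P ≤ N := D.hN ▸ Subgroup.le_normalizer

theorem Data.conj_mem (D : Data p M P N) {n u : G} (hn : n ∈ N) (hu : u ∈ P) :
    n * u * n⁻¹ ∈ P := by
  rw [D.hN] at hn
  exact (Subgroup.mem_normalizer_iff.1 hn u).1 hu

theorem Data.mem_of_pElement (D : Data p M P N) {x : G} (hx : x ∈ N)
    (hk : ∃ k : ℕ, orderOf x = p ^ k) : x ∈ P := by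
  obtain ⟨S, hS⟩ := D.hP
  obtain ⟨k, hk⟩ := hk
  have hXp : IsPGroup p (Subgroup.zpowers x) :=
    IsPGroup.of_card (n := k) (by rw [Nat.card_zpowers, hk])
  have hsup : IsPGroup p ↥(Subgroup.zpowers x ⊔ (S : Subgroup G)) :=
    IsPGroup.to_sup_of_normal_right' hXp S.2 (by
      rw [Subgroup.zpowers_le, hS]
      rw [← D.hN]; exact hx)
  have := S.3 hsup le_sup_right
  rw [← hS, ← this]
  exact Subgroup.mem_sup_left (Subgroup.mem_zpowers x)

open scoped Classical in
/-- The members of the principal block. -/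
noncomputable def bset (G : Type u) [Group G] [Fintype G] (M : Ideal Cfsg.AlgInt) : Finset (IrrCharacter G) :=
  Finset.univ.filter (· ∈ Cfsg.principalBlock M G)

open scoped Classical in
/-- The members trivial on `P`. -/
noncomputable def vset (M : Ideal Cfsg.AlgInt) (P : Subgroup G) : Finset (IrrCharacter G) :=
  (bset G M).filter (fun χ => P ≤ H44.kerOf χ)

/-- The block part of the regular character. -/
noncomputable def phi (M : Ideal Cfsg.AlgInt) (g : G) : ℂ :=
  ∑ χ ∈ bset G M, (χ : G → ℂ) 1 * (χ : G → ℂ) g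

/-- Its average over `P`. -/
noncomputable def avg (M : Ideal Cfsg.AlgInt) (P : Subgroup G) (g : G) : ℂ :=
  ∑ χ ∈ vset M P, (χ : G → ℂ) 1 * (χ : G → ℂ) g

/-- The common kernel of the members trivial on `P`. -/
noncomputable def core (M : Ideal Cfsg.AlgInt) (P : Subgroup G) : Subgroup G :=
  ⨅ χ ∈ vset M P, H44.kerOf χ

theorem mem_bset {χ : IrrCharacter G} : χ ∈ bset G M ↔ χ ∈ Cfsg.principalBlock M G := by
  simp [bset]

theorem mem_vset {χ : IrrCharacter G} :
    χ ∈ vset M P ↔ χ ∈ Cfsg.principalBlock M G ∧ P ≤ H44.kerOf χ := by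
  simp [vset, mem_bset]

theorem mem_core {g : G} : g ∈ core M P ↔ ∀ χ ∈ vset M P, g ∈ H44.kerOf χ := by
  simp [core, Subgroup.mem_iInf]

theorem core_normal : (core (G := G) M P).Normal :=
  ⟨fun g hg x => mem_core.2 fun χ hχ =>
    (H44.kerOf_normal χ).conj_mem g (mem_core.1 hg χ hχ) x⟩

theorem le_core : P ≤ core M P := fun _ hu => mem_core.2 fun _ hχ => (mem_vset.1 hχ).2 hu

theorem phi_conj (g x : G) : phi M (x * g * x⁻¹) = phi M g :=
  Finset.sum_congr rfl fun χ _ => by rw [H26.irr_conj]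

theorem Data.phi_singular (D : Data p M P N) {g : G} (hg : p ∣ orderOf g) : phi M g = 0 := by
  classical
  haveI := D.hM.2.1
  have h := H40.sum_block_mul_conj_eq_zero D.hM (H26.isPBlock_principalBlock (M := M) G)
    (x := 1) (y := g) (by rw [orderOf_one]; exact hp.out.not_dvd_one) hg
  have h2 := congrArg conj h
  rw [map_zero, map_sum] at h2
  rw [phi, ← h2]
  exact Finset.sum_congr (by ext; simp [bset]) fun χ _ => by
    rw [map_mul, Complex.conj_conj, H42.irr_one_eq, Complex.conj_natCast]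

theorem Data.sup_eq_top (D : Data p M P N) : core M P ⊔ N = ⊤ := by
  haveI := core_normal (G := G) (M := M) (P := P)
  obtain ⟨S, hS⟩ := D.hP
  have hle : (S : Subgroup G) ≤ core M P := hS ▸ le_core
  rw [eq_top_iff]
  intro g _
  have hconj : ∀ y ∈ (S : Subgroup G), g⁻¹ * y * g ∈ core M P := fun y hy => by
    simpa using (core_normal (G := G) (M := M) (P := P)).conj_mem y (hle hy) g⁻¹
  have h := Sylow.normalizer_sup_eq_top (N := core M P) (S.subtype hle)
  rw [Sylow.coe_subtype, Subgroup.map_subgroupOf_eq_of_le hle, hS, ← D.hN] at h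
  rw [sup_comm, h]
  exact Subgroup.mem_top g

/-- Members trivial on `P` are determined by their restrictions. -/
theorem Data.vset_restrict_inj (D : Data p M P N) {χ χ' : IrrCharacter G} (hχ : χ ∈ vset M P)
    (hχ' : χ' ∈ vset M P) (h : ∀ n : N, (χ : G → ℂ) n = (χ' : G → ℂ) n) : χ = χ' := by
  haveI := core_normal (G := G) (M := M) (P := P)
  refine Subtype.ext (funext fun g => ?_)
  have hg : g ∈ N ⊔ core M P := by rw [sup_comm, D.sup_eq_top]; exact Subgroup.mem_top g
  obtain ⟨n, hn, r, hr, rfl⟩ := Subgroup.mem_sup_of_normal_right.1 hg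
  rw [H44.irr_mul_of_mem_kerOf (mem_core.1 hr χ hχ),
    H44.irr_mul_of_mem_kerOf (mem_core.1 hr χ' hχ')]
  exact h ⟨n, hn⟩

/-- Averaging over `P`. -/
theorem Data.sum_phi_mul (D : Data p M P N) [Fintype P] {g : G} (hg : g ∈ N) :
    ∑ u : P, phi M (g * u) = Fintype.card P * avg M P g := by
  classical
  haveI := Fintype.ofFinite N
  rw [show (∑ u : P, phi M (g * u)) =
    ∑ χ ∈ bset G M, (χ : G → ℂ) 1 * ∑ u : P, (χ : G → ℂ) (g * u) by
      simp only [phi, Finset.mul_sum]; exact Finset.sum_comm]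
  rw [avg, vset, Finset.sum_filter, Finset.mul_sum]
  refine Finset.sum_congr rfl fun χ hχ => ?_
  split_ifs with hker
  · rw [Finset.sum_congr rfl fun (u : P) _ => H44.irr_mul_of_mem_kerOf (hker u.2) g,
      Finset.sum_const, Finset.card_univ, nsmul_eq_mul]
    ring
  · rw [mul_zero]
    set ψ : IrrCharacter N := ⟨_, D.hirr χ (mem_bset.1 hχ)⟩
    haveI : (P.subgroupOf N).Normal := ⟨fun x hx y => Subgroup.mem_subgroupOf.2
      (D.conj_mem y.2 (Subgroup.mem_subgroupOf.1 hx))⟩
    haveI := Fintype.ofFinite (P.subgroupOf N)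
    have hk : ¬ P.subgroupOf N ≤ H44.kerOf ψ := fun h => hker fun u hu =>
      H44.mem_kerOf.2 (H44.mem_kerOf.1 (h (Subgroup.mem_subgroupOf.2 hu : (⟨u, D.le hu⟩ : N) ∈ _)))
    have h0 := sum_mul_eq_zero (P.subgroupOf N) ψ hk ⟨g, hg⟩
    rw [← Fintype.sum_equiv (Subgroup.subgroupOfEquivOfLe D.le).toEquiv
      (fun u : P.subgroupOf N => (χ : G → ℂ) (g * ((u : N) : G))) _ fun u => rfl]
    rw [show (∑ u : P.subgroupOf N, (χ : G → ℂ) (g * ((u : N) : G))) = 0 from h0, mul_zero]

open scoped Classical in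
/-- The number of regular elements in a coset of `P`. -/
noncomputable def cnt (p : ℕ) (P : Subgroup G) [Fintype P] (g : G) : ℕ :=
  (Finset.univ.filter fun u : P => ¬ p ∣ orderOf (g * u)).card

theorem Data.exists_regular (D : Data p M P N) [Fintype P] {g : G} (hg : g ∈ N) :
    ∃ u : P, ¬ p ∣ orderOf (g * u) := by
  obtain ⟨x, y, hxy, hc, ⟨k, hk⟩, hy⟩ := H40.exists_isPPart p g
  have hxN : x ∈ N := by
    obtain ⟨l, hl1, hl2⟩ := H40.exists_pPart_exponent p G
    rw [← hl1 g x ⟨y, hxy, hc, ⟨k, hk⟩, hy⟩]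
    exact N.pow_mem hg l
  refine ⟨⟨x⁻¹, P.inv_mem (D.mem_of_pElement hxN ⟨k, hk⟩)⟩, ?_⟩
  show ¬ p ∣ orderOf (g * x⁻¹)
  rwa [← hxy, hc.eq, mul_assoc, mul_inv_cancel, mul_one]

theorem Data.cnt_pos (D : Data p M P N) [Fintype P] {g : G} (hg : g ∈ N) : 0 < cnt p P g := by
  classical
  obtain ⟨u, hu⟩ := D.exists_regular hg
  exact Finset.card_pos.2 ⟨u, Finset.mem_filter.2 ⟨Finset.mem_univ _, hu⟩⟩

theorem cnt_mul [Fintype P] (g : G) (v : P) : cnt p P (g * v) = cnt p P g := by
  classical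
  refine Finset.card_equiv (Equiv.mulLeft v) fun u => ?_
  simp [mul_assoc]

/-- A regular element alone in its coset centralises `P`. -/
theorem Data.commute_of_cnt_one (D : Data p M P N) [Fintype P] {g : G} (hg : g ∈ N)
    (hr : ¬ p ∣ orderOf g) (h1 : cnt p P g = 1) {u : G} (hu : u ∈ P) : u * g = g * u := by
  classical
  obtain ⟨u₀, hu₀⟩ := Finset.card_eq_one.1 h1
  have hone : ∀ w : P, ¬ p ∣ orderOf (g * w) → w = 1 := by
    intro w hw
    have h2 : w ∈ ({u₀} : Finset P) := hu₀ ▸ Finset.mem_filter.2 ⟨Finset.mem_univ _, hw⟩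
    have h3 : (1 : P) ∈ ({u₀} : Finset P) := hu₀ ▸
      Finset.mem_filter.2 ⟨Finset.mem_univ _, by simpa using hr⟩
    rw [Finset.mem_singleton] at h2 h3
    exact h2.trans h3.symm
  have hw : g⁻¹ * (u * g * u⁻¹) ∈ P := by
    have h := P.mul_mem (D.conj_mem (N.inv_mem hg) hu) (P.inv_mem hu)
    simpa [mul_assoc] using h
  have h4 := hone ⟨_, hw⟩ (by
    show ¬ p ∣ orderOf (g * (g⁻¹ * (u * g * u⁻¹)))
    rwa [mul_inv_cancel_left, show orderOf (u * g * u⁻¹) = orderOf g from
      orderOf_injective (MulAut.conj u).toMonoidHom (MulAut.conj u).injective g])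
  have h5 : g⁻¹ * (u * g * u⁻¹) = 1 := congrArg Subtype.val h4
  rw [inv_mul_eq_one] at h5
  calc u * g = (u * g * u⁻¹) * u := by group
    _ = g * u := by rw [← h5]

/-- The value of `phi` at a regular element of `N`. -/
theorem Data.phi_regular (D : Data p M P N) [Fintype P] {g : G} (hg : g ∈ N)
    (hr : ¬ p ∣ orderOf g) :
    (cnt p P g : ℂ) * phi M g = Fintype.card P * avg M P g := by
  classical
  rw [← D.sum_phi_mul hg, ← Finset.sum_filter_add_sum_filter_not Finset.univ
    (fun u : P => ¬ p ∣ orderOf (g * u)),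
    Finset.sum_eq_zero (s := Finset.univ.filter fun u : P => ¬¬ p ∣ orderOf (g * u)) fun u hu =>
      D.phi_singular (not_not.1 (Finset.mem_filter.1 hu).2), add_zero]
  rw [show (cnt p P g : ℂ) * phi M g = ∑ _u ∈ Finset.univ.filter
    (fun u : P => ¬ p ∣ orderOf (g * u)), phi M g by
      rw [Finset.sum_const, nsmul_eq_mul]; rfl]
  refine Finset.sum_congr rfl fun u hu => ?_
  -- regular elements of a coset are conjugate
  set x : N := ⟨g, hg⟩
  set y : N := ⟨g * u, N.mul_mem hg (D.le u.2)⟩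
  haveI : (P.subgroupOf N).Normal := ⟨fun z hz t => Subgroup.mem_subgroupOf.2
    (D.conj_mem t.2 (Subgroup.mem_subgroupOf.1 hz))⟩
  obtain ⟨S, hS⟩ := D.hP
  have hMp : IsPGroup p ((P.subgroupOf N).map (QuotientGroup.mk' (⊥ : Subgroup N))) := by
    refine IsPGroup.map ?_ _
    rw [← hS]
    exact S.2.comap_of_injective N.subtype N.subtype_injective
  obtain ⟨w, -, hw⟩ := DegWeighted.exists_conj_mem_coset (K := (⊥ : Subgroup N))
    (M := P.subgroupOf N) hMp (g := x) (h := y) (by rwa [← Subgroup.orderOf_coe])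
    (by rw [← Subgroup.orderOf_coe]; exact (Finset.mem_filter.1 hu).2)
    (GRing.mem_lcoset.2 (Subgroup.mem_subgroupOf.2 (by simp [x, y])))
  rw [GRing.mem_lcoset, Subgroup.mem_bot, inv_mul_eq_one] at hw
  have e : g * u = (w : G) * g * (w : G)⁻¹ := congrArg Subtype.val hw
  rw [e, phi_conj]

/-- The sum of the squared degrees over a set of characters. -/
noncomputable def dsq (s : Finset (IrrCharacter G)) : ℝ :=
  ∑ χ ∈ s, ((Cfsg.charDegree (χ : G → ℂ) : ℕ) : ℝ) ^ 2

theorem dsq_eq (s : Finset (IrrCharacter G)) :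
    ((dsq s : ℝ) : ℂ) = ∑ χ ∈ s, (χ : G → ℂ) 1 * (χ : G → ℂ) 1 := by
  rw [dsq, Complex.ofReal_sum]
  exact Finset.sum_congr rfl fun χ _ => by rw [H42.irr_one_eq]; push_cast; ring

theorem phi_one : phi (G := G) M 1 = (dsq (bset G M) : ℝ) := (dsq_eq _).symm

theorem avg_one : avg M P 1 = (dsq (vset M P) : ℝ) := (dsq_eq _).symm

/-- The norm on `N` of a combination of block members. -/
theorem Data.norm_sum (D : Data p M P N) [Fintype N] (s : Finset (IrrCharacter G))
    (hs : ∀ χ ∈ s, χ ∈ Cfsg.principalBlock M G) :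
    ∃ r : ℕ, (∑ n : N, Complex.normSq (∑ χ ∈ s, (χ : G → ℂ) 1 * (χ : G → ℂ) n)) =
        (Nat.card N : ℝ) * (dsq s + r) ∧
      (r = 0 ↔ ∀ χ ∈ s, ∀ χ' ∈ s, (∀ n : N, (χ : G → ℂ) n = (χ' : G → ℂ) n) → χ = χ') := by
  classical
  set E : IrrCharacter G → IrrCharacter G → Prop := fun χ χ' =>
    χ ≠ χ' ∧ ∀ n : N, (χ : G → ℂ) n = (χ' : G → ℂ) n with hE
  set r := ∑ χ ∈ s, ∑ χ' ∈ s, if E χ χ' then
    Cfsg.charDegree (χ : G → ℂ) * Cfsg.charDegree (χ' : G → ℂ) else 0 with hr
  refine ⟨r, ?_, ?_⟩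
  · refine Complex.ofReal_injective ?_
    rw [Complex.ofReal_mul, Complex.ofReal_add, dsq_eq, Complex.ofReal_sum]
    simp only [← Complex.mul_conj, map_sum, Finset.sum_mul, Finset.mul_sum]
    rw [Finset.sum_comm]
    push_cast [hr]
    rw [← Finset.sum_add_distrib, Finset.mul_sum, Finset.sum_congr rfl fun y _ => Finset.sum_comm,
      Finset.sum_comm]
    refine Finset.sum_congr rfl fun χ hχ => ?_
    have hdiag : (χ : G → ℂ) 1 * (χ : G → ℂ) 1 = Finset.sum s fun χ' : IrrCharacter G =>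
        (if χ = χ' then (χ : G → ℂ) 1 * (χ : G → ℂ) 1 else 0 : ℂ) := by
      rw [Finset.sum_ite_eq, if_pos hχ]
    rw [hdiag, ← Finset.sum_add_distrib, Finset.mul_sum]
    refine Finset.sum_congr rfl fun χ' hχ' => ?_
    set ψ : IrrCharacter N := ⟨_, D.hirr χ (hs χ hχ)⟩ with hψ
    set ψ' : IrrCharacter N := ⟨_, D.hirr χ' (hs χ' hχ')⟩ with hψ'
    have h1 : ∑ n : N, (χ : G → ℂ) n * conj ((χ' : G → ℂ) n) =
        (Nat.card N : ℂ) * if ψ = ψ' then 1 else 0 := by
      rw [← H26.classInner_irr, Cfsg.classInner, ← mul_assoc,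
        mul_inv_cancel₀ (Nat.cast_ne_zero.2 Nat.card_pos.ne'), one_mul]
    rw [show (∑ n : N, (χ : G → ℂ) 1 * (χ : G → ℂ) n *
        conj ((χ' : G → ℂ) 1 * (χ' : G → ℂ) n)) =
      (χ : G → ℂ) 1 * conj ((χ' : G → ℂ) 1) *
        ∑ n : N, (χ : G → ℂ) n * conj ((χ' : G → ℂ) n) by
      rw [Finset.mul_sum]; exact Finset.sum_congr rfl fun n _ => by rw [map_mul]; ring]
    rw [h1, H42.irr_one_eq χ, H42.irr_one_eq χ', Complex.conj_natCast]
    have hiff : ψ = ψ' ↔ ∀ n : N, (χ : G → ℂ) n = (χ' : G → ℂ) n :=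
      ⟨fun h n => congrFun (congrArg Subtype.val h) n, fun h => Subtype.ext (funext h)⟩
    by_cases hc : χ = χ'
    · subst hc
      rw [if_pos rfl, if_pos rfl, if_neg (fun h => h.1 rfl)]
      push_cast
      ring
    · rw [if_neg hc]
      by_cases hq : ψ = ψ'
      · rw [if_pos hq, if_pos ⟨hc, hiff.1 hq⟩]; push_cast; ring
      · rw [if_neg hq, if_neg fun h => hq (hiff.2 h.2)]; push_cast; ring
  · constructor
    · intro h0 χ hχ χ' hχ' he
      by_contra hne
      have h1 := Finset.sum_eq_zero_iff.1 (Finset.sum_eq_zero_iff.1 h0 χ hχ) χ' hχ'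
      rw [if_pos ⟨hne, he⟩] at h1
      exact (Nat.mul_pos (H44.charDegree_pos χ) (H44.charDegree_pos χ')).ne' h1
    · exact fun h => Finset.sum_eq_zero fun χ hχ => Finset.sum_eq_zero fun χ' hχ' =>
        if_neg fun hE' => hE'.1 (h χ hχ χ' hχ' hE'.2)

/-- Restrictions are distinct, and `avg` lives on cosets with one regular element. -/
theorem Data.main (D : Data p M P N) [Fintype P] :
    (∀ χ ∈ bset G M, ∀ χ' ∈ bset G M, (∀ n : N, (χ : G → ℂ) n = (χ' : G → ℂ) n) → χ = χ') ∧
      ∀ g ∈ N, avg M P g ≠ 0 → cnt p P g = 1 := by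
  classical
  haveI := Fintype.ofFinite N
  obtain ⟨r, hΦ, hriff⟩ := D.norm_sum (bset G M) fun χ h => mem_bset.1 h
  obtain ⟨r', hA, hr'iff⟩ := D.norm_sum (vset M P) fun χ h => (mem_vset.1 h).1
  rw [hr'iff.2 fun χ hχ χ' hχ' h => D.vset_restrict_inj hχ hχ' h, Nat.cast_zero, add_zero] at hA
  have hP0 : (0 : ℝ) < Fintype.card P := Nat.cast_pos.2 Fintype.card_pos
  have hc1 : cnt p P (1 : G) = 1 := by
    rw [cnt, Finset.card_eq_one]
    refine ⟨1, Finset.ext fun u => ?_⟩
    simp only [Finset.mem_filter, Finset.mem_univ, true_and, one_mul, Finset.mem_singleton]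
    refine ⟨fun h => ?_, fun h => ?_⟩
    · obtain ⟨S, hS⟩ := D.hP
      obtain ⟨k, hk⟩ := IsPGroup.iff_orderOf.1 (hS ▸ S.2 : IsPGroup p P) u
      rw [← Subgroup.orderOf_coe] at hk
      rcases k with _ | k
      · rw [← orderOf_eq_one_iff, ← Subgroup.orderOf_coe]; simpa using hk
      · exact absurd (hk ▸ dvd_pow_self p k.succ_ne_zero) h
    · rw [h, OneMemClass.coe_one, orderOf_one]; exact hp.out.not_dvd_one
  have h1 : dsq (bset G M) = Fintype.card P * dsq (vset M P) := by
    have h := D.phi_regular N.one_mem (by rw [orderOf_one]; exact hp.out.not_dvd_one)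
    rw [hc1, Nat.cast_one, one_mul, phi_one, avg_one] at h
    exact_mod_cast h
  set A : N → ℝ := fun n => Complex.normSq (avg M P n) with hAdef
  set F : N → ℝ := fun n => if ¬ p ∣ orderOf (n : G) then
    ((cnt p P (n : G) : ℝ))⁻¹ else 0 with hF
  have hPhi : ∀ n : N, Complex.normSq (phi M (n : G)) =
      (Fintype.card P : ℝ) ^ 2 * (A n * F n ^ 2) := by
    intro n
    by_cases hn : p ∣ orderOf (n : G)
    · rw [D.phi_singular hn, map_zero]
      rw [show F n = 0 from if_neg (not_not.2 hn)]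
      ring
    · have h := congrArg Complex.normSq (D.phi_regular n.2 hn)
      simp only [map_mul, Complex.normSq_natCast] at h
      simp only [hF, hn, not_false_iff, if_true, hAdef]
      have hc : (cnt p P (n : G) : ℝ) ≠ 0 := Nat.cast_ne_zero.2 (D.cnt_pos n.2).ne'
      field_simp
      linear_combination h
  -- every coset carries total weight one
  have hw : ∑ n : N, A n = (Fintype.card P : ℝ) * ∑ n : N, A n * F n := by
    set e : P → N := fun u => ⟨u, D.le u.2⟩
    have hshift : ∀ (u : P) (n : N), A (n * e u) = A n := fun u n => by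
      simp only [hAdef, Subgroup.coe_mul, e]
      congr 1
      exact Finset.sum_congr rfl fun χ hχ => by
        rw [H44.irr_mul_of_mem_kerOf ((mem_vset.1 hχ).2 u.2)]
    have hone : ∀ n : N, ∑ u : P, F (n * e u) = 1 := by
      intro n
      simp only [hF, Subgroup.coe_mul, e, cnt_mul]
      rw [← Finset.sum_filter, Finset.sum_const, nsmul_eq_mul]
      exact mul_inv_cancel₀ (Nat.cast_ne_zero.2 (D.cnt_pos n.2).ne')
    calc ∑ n : N, A n = ∑ n : N, ∑ u : P, A (n * e u) * F (n * e u) := by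
          refine Finset.sum_congr rfl fun n _ => ?_
          rw [Finset.sum_congr rfl fun u _ => by rw [hshift u n], ← Finset.mul_sum, hone, mul_one]
      _ = ∑ u : P, ∑ n : N, A n * F n := by
          rw [Finset.sum_comm]
          exact Finset.sum_congr rfl fun u _ =>
            Fintype.sum_equiv (Equiv.mulRight (e u)) _ _ fun n => rfl
      _ = _ := by rw [Finset.sum_const, nsmul_eq_mul, Finset.card_univ]
  have hΦ' : (Fintype.card P : ℝ) ^ 2 * ∑ n : N, A n * F n ^ 2 =
      (Nat.card N : ℝ) * (dsq (bset G M) + r) := by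
    rw [Finset.mul_sum, ← hΦ]
    refine Finset.sum_congr rfl fun n _ => ?_
    show _ = Complex.normSq (phi M (n : G))
    exact (hPhi n).symm
  have hA' : ∑ n : N, A n = (Nat.card N : ℝ) * dsq (vset M P) := hA
  have hFle : ∀ n : N, 0 ≤ A n * F n - A n * F n ^ 2 := by
    intro n
    rw [show A n * F n - A n * F n ^ 2 = A n * (F n * (1 - F n)) by ring]
    refine mul_nonneg (Complex.normSq_nonneg _) ?_
    simp only [hF]
    split_ifs with hn
    · simp
    · refine mul_nonneg (inv_nonneg.2 (Nat.cast_nonneg _)) (sub_nonneg.2 ?_)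
      exact inv_le_one_of_one_le₀ (by exact_mod_cast D.cnt_pos n.2)
  have hkey : (Fintype.card P : ℝ) ^ 2 * ∑ n : N, (A n * F n - A n * F n ^ 2) +
      (Nat.card N : ℝ) * r = 0 := by
    rw [Finset.sum_sub_distrib, mul_sub, hΦ', h1]
    rw [hw] at hA'
    have := congrArg (fun x : ℝ => (Fintype.card P : ℝ) * x) hA'
    simp only [← mul_assoc, ← sq] at this
    linarith
  have hsum0 : 0 ≤ ∑ n : N, (A n * F n - A n * F n ^ 2) := Finset.sum_nonneg fun n _ => hFle n
  have hN0 : (0 : ℝ) < Nat.card N := Nat.cast_pos.2 Nat.card_pos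
  obtain ⟨hz, hr⟩ := (add_eq_zero_iff_of_nonneg
    (mul_nonneg (sq_nonneg _) hsum0) (mul_nonneg hN0.le (Nat.cast_nonneg r))).1 hkey
  refine ⟨hriff.1 (by exact_mod_cast (mul_eq_zero.1 hr).resolve_left hN0.ne'), fun g hg hne => ?_⟩
  obtain ⟨u, hu⟩ := D.exists_regular hg
  have hz' := (Finset.sum_eq_zero_iff_of_nonneg fun n _ => hFle n).1
    ((mul_eq_zero.1 hz).resolve_left (pow_ne_zero 2 hP0.ne')) ⟨g * u, N.mul_mem hg (D.le u.2)⟩
    (Finset.mem_univ _)
  simp only [hF, hu, not_false_iff, if_true, cnt_mul, hAdef] at hz'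
  have hav : avg M P (g * u) = avg M P g := Finset.sum_congr rfl fun χ hχ => by
    rw [H44.irr_mul_of_mem_kerOf ((mem_vset.1 hχ).2 u.2)]
  rw [hav] at hz'
  have hA0 : Complex.normSq (avg M P g) ≠ 0 := fun h => hne (Complex.normSq_eq_zero.1 h)
  have hc : (cnt p P g : ℝ) ≠ 0 := Nat.cast_ne_zero.2 (D.cnt_pos hg).ne'
  field_simp at hz'
  rw [mul_zero] at hz'
  have : (cnt p P g : ℝ) = 1 := sub_eq_zero.1 ((mul_eq_zero.1 hz').resolve_left hA0)
  exact_mod_cast this

end Cfsg.Agent.H41.PLengthOne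

namespace Cfsg.Agent.H41.DegWeighted

/-- A natural number prime to `p` lies outside `M`. -/
theorem natCast_notMem' {p : ℕ} {M : Ideal Cfsg.AlgInt} (hM : Cfsg.IsPModular p M) {n : ℕ}
    (hn : ¬ p ∣ n) : (n : Cfsg.AlgInt) ∉ M := by
  intro h
  obtain ⟨x, y, hxy⟩ := Nat.isCoprime_iff_coprime.2
    ((Nat.Prime.coprime_iff_not_dvd hM.1).2 hn)
  refine hM.2.1.ne_top ((Ideal.eq_top_iff_one M).2 ?_)
  have e : (x : Cfsg.AlgInt) * (p : Cfsg.AlgInt) + (y : Cfsg.AlgInt) * (n : Cfsg.AlgInt) = 1 := by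
    exact_mod_cast congrArg (fun z : ℤ => (z : Cfsg.AlgInt)) hxy
  rw [← e]
  exact M.add_mem (M.mul_mem_left _ hM.2.2) (M.mul_mem_left _ h)

/-- A natural number in the local ideal, up to sign, is divisible by `p`. -/
theorem dvd_of_memLocalIdeal {p : ℕ} {M : Ideal Cfsg.AlgInt} (hM : Cfsg.IsPModular p M) {n : ℕ}
    (h : Cfsg.MemLocalIdeal M (-(n : ℂ))) : p ∣ n := by
  by_contra hn
  haveI := hM.2.1
  obtain ⟨a, b, ha, hb, hab⟩ := h
  rw [div_eq_iff (H41.coe_ne_zero_of_notMem hb)] at hab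
  have e : a = -((n : Cfsg.AlgInt) * b) := Subtype.ext (by push_cast; rw [hab]; ring)
  rw [e, neg_mem_iff] at ha
  exact (Ideal.IsPrime.mem_or_mem hM.2.1.isPrime ha).elim (natCast_notMem' hM hn) hb

end Cfsg.Agent.H41.DegWeighted
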