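import Cfsg.Agent.H22.AlgPoints
import Cfsg.Agent.H22.StarInt
import Cfsg.Agent.H22.CharIdem
import Cfsg.Agent.H40.IdemLift
import Cfsg.Agent.H40.RegularSpan
import Cfsg.Agent.H43.CharTools
import Cfsg.Agent.H41.PLengthOneRestrict
import Cfsg.Agent.H43.D1.ModP
import Cfsg.Agent.H27.Monomial
import Mathlib.LinearAlgebra.Matrix.NonsingularInverse

/-!
# Irreducible Brauer characters from the points of the modular group algebra

A point of `k G` lifts to an idempotent of the local group algebra; its ranks on the ordinary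
irreducible representations are the decomposition numbers. The class functions dual to them are,
by Brauer induction, generalised characters on the `p`-regular parts.
-/

set_option autoImplicit false
set_option linter.unusedSectionVars false

namespace Cfsg.Agent.H41.BrauerChar

open Cfsg (IrrCharacter IsPPart)
open Cfsg.Agent.H41 (ResField localRing res)
open Cfsg.Agent.H40 (trAt trBar brAt redG invAlg ofFun)
open Cfsg.Agent.H22.AlgPoints (IsPrimIdem Point ptr pointOf)
open MonoidAlgebra (single)
open scoped ComplexConjugate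

universe u

section LocalMatrix

variable {M : Ideal Cfsg.AlgInt} [M.IsMaximal]

/-- A family with a modular left inverse has a complex left inverse. -/
theorem exists_leftInverse_of_res {ι κ : Type*} [Fintype ι] [Fintype κ] [DecidableEq κ]
    (w v : κ → ι → localRing M)
    (h : ∀ c c', res M (∑ i, w c i * v c' i) = if c = c' then 1 else 0) :
    ∃ W : κ → ι → ℂ, ∀ c c', ∑ i, W c i * (v c' i : ℂ) = if c = c' then 1 else 0 := by
  let A : Matrix κ κ (localRing M) := Matrix.of fun c c' => ∑ i, w c i * v c' i
  let A' : Matrix κ κ ℂ := (localRing M).subtype.mapMatrix A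
  have hA : (res M).mapMatrix A = 1 := by
    ext c c'
    simpa [A, Matrix.one_apply] using h c c'
  have hdet : A'.det ≠ 0 := by
    intro h0
    have h1 : A.det = 0 := by
      apply Subtype.val_injective
      show (localRing M).subtype A.det = _
      rw [RingHom.map_det]
      exact h0
    have h2 := RingHom.map_det (res M) A
    rw [h1, map_zero, hA, Matrix.det_one] at h2
    exact zero_ne_one h2
  refine ⟨fun c i => (A'⁻¹ * Matrix.of fun c i => (w c i : ℂ)) c i, fun c c' => ?_⟩
  have h3 : (Matrix.of fun c i => (w c i : ℂ)) * (Matrix.of fun i c' => (v c' i : ℂ)) = A' := by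
    ext a b
    simp [A', A, Matrix.mul_apply]
  calc _ = ((A'⁻¹ * Matrix.of fun c i => (w c i : ℂ)) *
        Matrix.of fun i c' => (v c' i : ℂ)) c c' := by simp [Matrix.mul_apply]
    _ = _ := by
      rw [Matrix.mul_assoc, h3, Matrix.nonsing_inv_mul _ (isUnit_iff_ne_zero.2 hdet), Matrix.one_apply]

end LocalMatrix

variable {G : Type u} [Group G] [Fintype G] {p : ℕ} [Fact p.Prime] {M : Ideal Cfsg.AlgInt}
  [M.IsMaximal]

section Setting

variable [IsAlgClosed (ResField M)] [CharP (ResField M) p]
  [FiniteDimensional (ResField M) (MonoidAlgebra (ResField M) G)]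
  [Fintype (Point (MonoidAlgebra (ResField M) G))] (hM : Cfsg.IsPModular p M)

/-- Points of the modular group algebra. -/
abbrev Pt (M : Ideal Cfsg.AlgInt) [M.IsMaximal] (G : Type u) [Group G] :=
  Point (MonoidAlgebra (ResField M) G)

theorem orderOf_one_eq : ∃ j : ℕ, orderOf (1 : G) = p ^ j := ⟨0, by simp⟩

theorem mem_invAlg_one {R : Type*} [CommRing R] (a : MonoidAlgebra R G) :
    a ∈ invAlg R (Subgroup.zpowers (1 : G)) :=
  H40.mem_invAlg.2 fun q hq x => by
    rw [Subgroup.zpowers_one_eq_bot, Subgroup.mem_bot] at hq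
    simp [hq]

theorem centralizer_one_eq_top :
    Subgroup.centralizer ((Subgroup.zpowers (1 : G) : Subgroup G) : Set G) = ⊤ := by
  refine top_le_iff.1 fun x _ => Subgroup.mem_centralizer_iff.2 fun y hy => ?_
  rw [Subgroup.zpowers_one_eq_bot, SetLike.mem_coe, Subgroup.mem_bot] at hy
  simp [hy]

theorem supp_one (a : MonoidAlgebra (ResField M) G) :
    H22.Supp (Subgroup.centralizer ((Subgroup.zpowers (1 : G) : Subgroup G) : Set G)) a := by
  intro g _
  rw [centralizer_one_eq_top]
  exact Subgroup.mem_top g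

theorem brAt_one (E : MonoidAlgebra (localRing M) G) : brAt (1 : G) E = redG M G E :=
  H22.cut_of_supp (supp_one _)

include hM in
theorem trBar_red {χ : IrrCharacter G} {E : MonoidAlgebra (localRing M) G} (hE : E * E = E) :
    trBar (M := M) (1 : G) (χ : G → ℂ) (redG M G E) = trAt 1 (χ : G → ℂ) E := by
  rw [← brAt_one]
  exact H40.trBar_eq hM orderOf_one_eq (H40.isLocTrace_irr χ) (mem_invAlg_one E) hE

theorem exists_lift {e : MonoidAlgebra (ResField M) G} (he : e * e = e) :
    ∃ E : MonoidAlgebra (localRing M) G, E * E = E ∧ redG M G E = e := by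
  obtain ⟨E, -, h1, h2⟩ := H40.exists_lift_supp (u := (1 : G)) (supp_one e) he
  exact ⟨E, h1, by rw [← brAt_one]; exact h2⟩

/-- The rank of a lifted idempotent on an ordinary representation is a natural number. -/
theorem exists_nat_trAt (χ : IrrCharacter G) {E : MonoidAlgebra (localRing M) G} (hE : E * E = E) :
    ∃ n : ℕ, trAt 1 (χ : G → ℂ) E = n := by
  obtain ⟨n, ρ, hρ⟩ := H22.isCharacter_trc (U := (⊥ : Subgroup G)) (H26.irr_isCharacter χ) hE
    (H40.inv_iff_mem_invAlg.2 (Subgroup.zpowers_one_eq_bot (G := G) ▸ mem_invAlg_one E))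
  refine ⟨Module.finrank ℂ (Fin n → ℂ), ?_⟩
  have h := congrFun hρ 1
  rw [ρ.char_one, H22.trc_apply] at h
  rw [h]
  rfl

include hM in
/-- The decomposition number of a character at a point. -/
theorem exists_dec (χ : IrrCharacter G) (c : Pt M G) :
    ∃ n : ℕ, trBar (M := M) (1 : G) (χ : G → ℂ) c.out.1 = n := by
  obtain ⟨E, hE, hEe⟩ := exists_lift c.out.2.idem
  obtain ⟨n, hn⟩ := exists_nat_trAt χ hE
  exact ⟨n, by rw [← hEe, trBar_red hM hE, hn]⟩

/-- The decomposition numbers. -/
noncomputable def dec (hM : Cfsg.IsPModular p M) (χ : IrrCharacter G) (c : Pt M G) : ℕ :=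
  (exists_dec hM χ c).choose

theorem dec_spec (χ : IrrCharacter G) (c : Pt M G) :
    trBar (M := M) (1 : G) (χ : G → ℂ) c.out.1 = dec hM χ c := (exists_dec hM χ c).choose_spec

include hM in
/-- An idempotent has a multiplicity at each point. -/
theorem exists_mult {e : MonoidAlgebra (ResField M) G} (he : e * e = e) :
    ∃ m : Pt M G → ℕ, (∀ χ : IrrCharacter G,
      trBar (M := M) (1 : G) (χ : G → ℂ) e = ∑ c, (m c : ℂ) * dec hM χ c) ∧
        ∀ c, ptr (ResField M) c e = (m c : ResField M) := by
  classical
  refine H22.AlgPoints.idem_induction (ResField M) (P := fun e => ∃ m : Pt M G → ℕ,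
    (∀ χ : IrrCharacter G, trBar (M := M) (1 : G) (χ : G → ℂ) e = ∑ c, (m c : ℂ) * dec hM χ c) ∧
      ∀ c, ptr (ResField M) c e = (m c : ResField M)) ?_ ?_ ?_ he
  · exact ⟨0, fun χ => by simp [H40.trBar_zero hM orderOf_one_eq (H40.isLocTrace_irr χ)],
      fun c => by simp⟩
  · rintro f g hf hg hfg hgf ⟨m, hm, hm'⟩ ⟨n, hn, hn'⟩
    refine ⟨m + n, fun χ => ?_, fun c => by rw [map_add, hm', hn', Pi.add_apply, Nat.cast_add]⟩
    rw [H40.trBar_add hM orderOf_one_eq (H40.isLocTrace_irr χ) (supp_one f) (supp_one g) hf hg hfg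
      hgf, hm, hn, ← Finset.sum_add_distrib]
    exact Finset.sum_congr rfl fun c _ => by simp [add_mul]
  · intro j hj
    refine ⟨fun c => if c = pointOf hj then 1 else 0, fun χ => ?_, fun c => ?_⟩
    · rw [Finset.sum_eq_single (pointOf hj) (fun c _ hc => by simp [hc])
        (fun h => absurd (Finset.mem_univ _) h)]
      simp only [if_true, Nat.cast_one, one_mul, ← dec_spec]
      obtain ⟨a, b, hab, hba⟩ := (H22.AlgPoints.pointOf_eq_iff (pointOf hj).out.2 hj).1
        (pointOf hj).out_eq
      refine ((congrArg (trBar (M := M) (1 : G) (χ : G → ℂ)) hba).symm.trans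
        (H40.trBar_equiv hM orderOf_one_eq (H40.isLocTrace_irr χ) (supp_one a) (supp_one b)
          ?_ ?_).symm).trans (congrArg (trBar (M := M) (1 : G) (χ : G → ℂ)) hab)
      · rw [hab]; exact (pointOf hj).out.2.idem
      · rw [hba]; exact hj.idem
    · rw [H22.AlgPoints.ptr_prim c hj]
      simp only [Nat.cast_ite, Nat.cast_one, Nat.cast_zero]

section Lin

variable {S : Subgroup G} (hS : ¬ p ∣ Nat.card S) (l : S →* ℂˣ)

include hM hS in
theorem coeff_mem (s : S) : (Nat.card S : ℂ)⁻¹ * (l s : ℂ) ∈ localRing M := by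
  refine mul_mem ⟨1, (Nat.card S : Cfsg.AlgInt), DegWeighted.natCast_notMem' hM hS, by simp⟩ ?_
  exact H41.isIntegral_mem_localRing
    (H45.isIntegral_char' (H26.isCharacter_of_irr (H26.isIrrCharacter_hom l)) s)

open scoped Classical in
/-- The idempotent of a linear character of a subgroup of order prime to `p`. -/
noncomputable def linElem : MonoidAlgebra (localRing M) G :=
  ofFun fun g => if h : g ∈ S then ⟨_, coeff_mem hM hS l ⟨g, h⟩⟩ else 0

theorem coeff_linElem_coe (s : S) :
    (((linElem hM hS l).coeff (s : G) : localRing M) : ℂ) = (Nat.card S : ℂ)⁻¹ * (l s : ℂ) := by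
  simp [linElem]

theorem coeff_linElem_of_notMem {g : G} (hg : g ∉ S) : (linElem hM hS l).coeff g = 0 := by
  simp [linElem, hg]

theorem linElem_mul_self : linElem hM hS l * linElem hM hS l = linElem hM hS l := by
  classical
  haveI := Fintype.ofFinite S
  refine H40.ext_coeff fun g => ?_
  rw [H40.coeff_mul_eq_sum]
  by_cases hg : g ∈ S
  · apply Subtype.ext
    simp only [AddSubmonoidClass.coe_finsetSum, MulMemClass.coe_mul]
    rw [show ((linElem hM hS l).coeff g : ℂ) = (Nat.card S : ℂ)⁻¹ * (l ⟨g, hg⟩ : ℂ) from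
      coeff_linElem_coe hM hS l ⟨g, hg⟩]
    rw [← Finset.sum_subset (Finset.subset_univ (Finset.univ.filter (· ∈ S))) (fun x _ hx => by
      rw [coeff_linElem_of_notMem hM hS l (by simpa using hx)]; simp)]
    rw [Finset.sum_subtype (p := (· ∈ S)) (F := inferInstance) _ (fun x => by simp)]
    rw [Finset.sum_congr rfl fun (x : S) _ => show _ = (Nat.card S : ℂ)⁻¹ * ((Nat.card S : ℂ)⁻¹ *
        (l ⟨g, hg⟩ : ℂ)) by
      rw [coeff_linElem_coe, show (x : G)⁻¹ * g = ((x⁻¹ * ⟨g, hg⟩ : S) : G) from rfl,
        coeff_linElem_coe, map_mul, map_inv, Units.val_mul]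
      field_simp [(l x).ne_zero]
      simp [mul_comm]]
    rw [Finset.sum_const, nsmul_eq_mul, Finset.card_univ, ← Nat.card_eq_fintype_card,
      mul_inv_cancel_left₀ (Nat.cast_ne_zero.2 Nat.card_pos.ne')]
  · rw [coeff_linElem_of_notMem hM hS l hg]
    refine Finset.sum_eq_zero fun x _ => ?_
    by_cases hx : x ∈ S
    · rw [coeff_linElem_of_notMem hM hS l (g := x⁻¹ * g)
        (fun h => hg (by simpa using mul_mem hx h)), mul_zero]
    · rw [coeff_linElem_of_notMem hM hS l hx, zero_mul]

theorem trAt_linElem [Fintype S] (χ : IrrCharacter G) :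
    trAt 1 (χ : G → ℂ) (linElem hM hS l) =
      (Nat.card S : ℂ)⁻¹ * ∑ s : S, (l s : ℂ) * (χ : G → ℂ) s := by
  classical
  simp only [trAt, mul_one]
  rw [← Finset.sum_subset (Finset.subset_univ (Finset.univ.filter (· ∈ S))) (fun x _ hx => by
    rw [coeff_linElem_of_notMem hM hS l (by simpa using hx)]; simp)]
  rw [Finset.sum_subtype (p := (· ∈ S)) (F := inferInstance) _ (fun x => by simp), Finset.mul_sum]
  exact Finset.sum_congr rfl fun x _ => by rw [coeff_linElem_coe, mul_assoc]

end Lin

include hM in
/-- On a regular element the characters are combinations of local values lifting the trace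
functionals. -/
theorem exists_phi {s : G} (hs : ¬ p ∣ orderOf s) :
    ∃ f : Pt M G → localRing M,
      (∀ χ : IrrCharacter G, (χ : G → ℂ) s = ∑ c, (dec hM χ c : ℂ) * (f c : ℂ)) ∧
        ∀ c, res M (f c) = ptr (ResField M) c (MonoidAlgebra.of (ResField M) G s) := by
  classical
  let S := Subgroup.zpowers s
  haveI : IsMulCommutative S := inferInstance
  letI : CommGroup S := { (inferInstance : Group S) with mul_comm := fun a b => mul_comm' a b }
  haveI := Fintype.ofFinite (S →* ℂˣ)
  haveI := Fintype.ofFinite S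
  have hS : ¬ p ∣ Nat.card S := by rwa [Nat.card_zpowers]
  let s' : S := ⟨s, Subgroup.mem_zpowers s⟩
  choose m hm hm' using fun l : S →* ℂˣ => exists_mult hM (e := redG M G (linElem hM hS l))
    (by rw [← map_mul, linElem_mul_self])
  have hz : ∀ l : S →* ℂˣ, (l s'⁻¹ : ℂ) ∈ localRing M := fun l => H41.isIntegral_mem_localRing
    (H45.isIntegral_char' (H26.isCharacter_of_irr (H26.isIrrCharacter_hom l)) s'⁻¹)
  refine ⟨fun c => ∑ l : S →* ℂˣ, ⟨_, hz l⟩ * (m l c : localRing M), fun χ => ?_, fun c => ?_⟩
  · calc (χ : G → ℂ) s = ∑ l : S →* ℂˣ, (l s'⁻¹ : ℂ) *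
        ((Nat.card S : ℂ)⁻¹ * ∑ x : S, (l x : ℂ) * (χ : G → ℂ) x) := by
          simp only [Finset.mul_sum]
          rw [Finset.sum_comm, Finset.sum_congr rfl fun (x : S) _ => show _ =
            (Nat.card S : ℂ)⁻¹ * (χ : G → ℂ) x * ∑ l : S →* ℂˣ, (l (s'⁻¹ * x) : ℂ) by
              rw [Finset.mul_sum]
              exact Finset.sum_congr rfl fun l _ => by rw [map_mul, Units.val_mul]; ring]
          simp only [H39.sum_hom_units_apply, inv_mul_eq_one, mul_ite, mul_zero]
          rw [Finset.sum_ite_eq, if_pos (Finset.mem_univ _)]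
          field_simp [show (Nat.card S : ℂ) ≠ 0 from Nat.cast_ne_zero.2 Nat.card_pos.ne']
          rfl
      _ = _ := by
          simp only [← trAt_linElem hM hS]
          simp only [← trBar_red hM (linElem_mul_self hM hS _), hm, Finset.mul_sum,
            AddSubmonoidClass.coe_finsetSum, MulMemClass.coe_mul, SubringClass.coe_natCast]
          rw [Finset.sum_comm]
          exact Finset.sum_congr rfl fun c _ => Finset.sum_congr rfl fun l _ => by ring
  · simp only [map_sum, map_mul, map_natCast, ← hm']
    rw [show (∑ l : S →* ℂˣ, res M ⟨_, hz l⟩ * ptr (ResField M) c (redG M G (linElem hM hS l))) =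
      ptr (ResField M) c (∑ l : S →* ℂˣ, res M ⟨_, hz l⟩ • redG M G (linElem hM hS l)) by
        simp [map_sum, smul_eq_mul]]
    congr 1
    refine H40.ext_coeff fun g => ?_
    have key : (∑ l : S →* ℂˣ, (⟨_, hz l⟩ : localRing M) * (linElem hM hS l).coeff g) =
        if s = g then 1 else 0 := by
      apply Subtype.ext
      simp only [AddSubmonoidClass.coe_finsetSum, MulMemClass.coe_mul]
      by_cases hg : g ∈ S
      · rw [Finset.sum_congr rfl fun l _ => show _ = (Nat.card S : ℂ)⁻¹ *
            (l (s'⁻¹ * ⟨g, hg⟩) : ℂ) by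
          rw [show ((linElem hM hS l).coeff g : ℂ) = (Nat.card S : ℂ)⁻¹ * (l ⟨g, hg⟩ : ℂ) from
            coeff_linElem_coe hM hS l ⟨g, hg⟩, map_mul, Units.val_mul]
          ring]
        rw [← Finset.mul_sum, H39.sum_hom_units_apply]
        by_cases h : s = g
        · subst h
          rw [if_pos (inv_mul_cancel s'), if_pos rfl,
            inv_mul_cancel₀ (Nat.cast_ne_zero.2 Nat.card_pos.ne')]
          rfl
        · rw [if_neg fun e => h (congrArg Subtype.val (inv_mul_eq_one.1 e)), if_neg h, mul_zero]
          rfl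
      · rw [if_neg fun e => hg (by rw [← e]; exact Subgroup.mem_zpowers s)]
        simp [coeff_linElem_of_notMem hM hS _ hg]
    have h2 := congrArg (res M) key
    simp only [map_sum, map_mul, apply_ite (res M), map_one, map_zero] at h2
    simp only [MonoidAlgebra.coeff_sum, Finset.sum_apply, Finsupp.finsetSum_apply,
      MonoidAlgebra.coeff_smul_apply, smul_eq_mul]
    simp only [redG, MonoidAlgebra.coeff_mapRingHom, h2]
    simp [MonoidAlgebra.of_apply, Finsupp.single_apply]

include hM in
/-- The trace functional at an element only depends on its regular part. -/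
theorem ptr_regular_part (c : Pt M G) {g x : G} (hg : IsPPart p g x) :
    ptr (ResField M) c (MonoidAlgebra.of (ResField M) G g) =
      ptr (ResField M) c (MonoidAlgebra.of (ResField M) G (x⁻¹ * g)) := by
  obtain ⟨y, hy, hc, ⟨j, hj⟩, hr⟩ := hg
  haveI : CharP (MonoidAlgebra (ResField M) G) p :=
    charP_of_injective_algebraMap (algebraMap (ResField M) _).injective p
  have hxy : x⁻¹ * g = y := by rw [← hy, inv_mul_cancel_left]
  rw [hxy, ← sub_eq_zero, ← map_sub]
  refine (H22.AlgPoints.ptr_traceLike (k := ResField M) c).nilp _ ?_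
  rw [show MonoidAlgebra.of (ResField M) G g - MonoidAlgebra.of (ResField M) G y =
    (MonoidAlgebra.of (ResField M) G x - 1) * MonoidAlgebra.of (ResField M) G y by
      rw [sub_mul, one_mul, ← map_mul, hy]]
  refine Commute.isNilpotent_mul_right ?_ ?_
  · exact (show Commute x y from hc).map (MonoidAlgebra.of (ResField M) G) |>.sub_left
      (Commute.one_left _)
  · refine ⟨p ^ j, ?_⟩
    rw [sub_pow_char_pow_of_commute _ _ (Commute.one_right _), one_pow, ← map_pow, ← hj,
      pow_orderOf_eq_one, map_one, sub_self]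

include hM in
/-- The trace functionals are independent on the regular elements. -/
theorem eq_zero_of_regular {z : Pt M G → ResField M}
    (h : ∀ s : G, ¬ p ∣ orderOf s →
      ∑ c, z c * ptr (ResField M) c (MonoidAlgebra.of (ResField M) G s) = 0) : z = 0 := by
  classical
  have hall : ∀ a : MonoidAlgebra (ResField M) G, ∑ c, z c * ptr (ResField M) c a = 0 := by
    intro a
    induction a using MonoidAlgebra.induction_on with
    | of g =>
      have hx := H22.isPPart_pp p g
      obtain ⟨y, hy, -, -, hr⟩ := id hx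
      simp only [ptr_regular_part hM _ hx]
      exact h _ (by rwa [inv_mul_eq_iff_eq_mul.2 hy.symm])
    | add a b ha hb => simp only [map_add, mul_add, Finset.sum_add_distrib, ha, hb, add_zero]
    | smul r a ha =>
      simp only [map_smul, smul_eq_mul]
      rw [Finset.sum_congr rfl fun c _ => mul_left_comm _ _ _, ← Finset.mul_sum, ha, mul_zero]
  funext c'
  have := hall c'.out.1
  rw [Finset.sum_eq_single c' (fun c _ hc => by
    rw [H22.AlgPoints.ptr_prim c c'.out.2, if_neg, mul_zero]
    exact fun e => hc (e.trans c'.out_eq))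
    (fun h => absurd (Finset.mem_univ _) h), H22.AlgPoints.ptr_prim c' c'.out.2,
    if_pos (show c' = pointOf c'.out.2 from c'.out_eq.symm), mul_one] at this
  exact this

include hM in
/-- The decomposition matrix has a left inverse. -/
theorem exists_leftInverse_dec [DecidableEq (Pt M G)] :
    ∃ L : Pt M G → IrrCharacter G → ℂ,
      ∀ c c', ∑ χ, L c χ * (dec hM χ c' : ℂ) = if c = c' then 1 else 0 := by
  classical
  choose sec hsec using H41.res_surjective (M := M)
  have hinv : ∀ n : ℕ, ¬ p ∣ n → (n : ℂ)⁻¹ ∈ localRing M := fun n hn =>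
    ⟨1, (n : Cfsg.AlgInt), DegWeighted.natCast_notMem' hM hn, by simp⟩
  have hex : ∀ c : Pt M G, ∃ a : IrrCharacter G → localRing M, ∀ c',
      res M (∑ χ, a χ * (dec hM χ c' : localRing M)) = if c = c' then 1 else 0 := by
    intro c
    obtain ⟨a, ha, hsum⟩ := H40.exists_regular_combination p (localRing M)
      (fun z hz => H41.isIntegral_mem_localRing hz) hinv
      (fun g => ((sec (ptr (ResField M) c (MonoidAlgebra.of (ResField M) G g)) : localRing M) : ℂ))
      (fun g x => by
        show ((sec _ : localRing M) : ℂ) = _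
        rw [show x * g * x⁻¹ = x * (g * x⁻¹) from mul_assoc _ _ _, map_mul,
          (H22.AlgPoints.ptr_traceLike (k := ResField M) c).comm, ← map_mul,
          inv_mul_cancel_right])
      fun g _ => SetLike.coe_mem _
    refine ⟨fun χ => ⟨a χ, ha χ⟩, ?_⟩
    have hz : (fun c' => res M (∑ χ, (⟨a χ, ha χ⟩ : localRing M) * (dec hM χ c' : localRing M)) -
        if c = c' then 1 else 0) = 0 := by
      refine eq_zero_of_regular hM fun s hs => ?_
      obtain ⟨f, hf, hf'⟩ := exists_phi hM hs
      have hA : ∑ χ, (⟨a χ, ha χ⟩ : localRing M) * (∑ c', (dec hM χ c' : localRing M) * f c') =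
          sec (ptr (ResField M) c (MonoidAlgebra.of (ResField M) G s)) := by
        apply Subtype.ext
        rw [← hsum s hs]
        simp [AddSubmonoidClass.coe_finsetSum, hf]
      have h2 := congrArg (res M) hA
      rw [hsec] at h2
      simp only [sub_mul, ite_mul, one_mul, zero_mul, Finset.sum_sub_distrib, Finset.sum_ite_eq,
        Finset.mem_univ, if_true, ← hf', map_sum, map_mul, Finset.sum_mul]
      rw [sub_eq_zero]
      refine Eq.trans ?_ (h2.trans (hf' c).symm)
      simp only [map_sum, map_mul, Finset.mul_sum]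
      rw [Finset.sum_comm]
      exact Finset.sum_congr rfl fun χ _ => Finset.sum_congr rfl fun c' _ => by ring
    exact fun c' => sub_eq_zero.1 (congrFun hz c')
  choose a ha using hex
  obtain ⟨W, hW⟩ := exists_leftInverse_of_res (M := M) (w := a)
    (v := fun c' χ => (dec hM χ c' : localRing M)) ha
  exact ⟨W, fun c c' => by simpa using hW c c'⟩

include hM in
/-- Only the zero combination of lifted trace functionals vanishes on the regular elements. -/
theorem eq_zero_of_phi (f : G → Pt M G → localRing M)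
    (hf : ∀ s, ¬ p ∣ orderOf s → ∀ c,
      res M (f s c) = ptr (ResField M) c (MonoidAlgebra.of (ResField M) G s))
    {z : Pt M G → ℂ} (hz : ∀ s, ¬ p ∣ orderOf s → ∑ c, z c * (f s c : ℂ) = 0) : z = 0 := by
  classical
  let F : (Pt M G → ResField M) →ₗ[ResField M] ({s : G // ¬ p ∣ orderOf s} → ResField M) :=
    { toFun := fun z s => ∑ c, z c * ptr (ResField M) c (MonoidAlgebra.of (ResField M) G s.1)
      map_add' := fun a b => funext fun s => by simp [add_mul, Finset.sum_add_distrib]
      map_smul' := fun r a => funext fun s => by simp [Finset.mul_sum, mul_assoc] }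
  obtain ⟨R, hR⟩ := F.exists_leftInverse_of_injective (LinearMap.ker_eq_bot'.2 fun z hz =>
    eq_zero_of_regular hM fun s hs => congrFun hz ⟨s, hs⟩)
  choose sec hsec using H41.res_surjective (M := M)
  have key : ∀ c c', res M (∑ s : {s : G // ¬ p ∣ orderOf s},
      sec (R (fun t => if t = s then 1 else 0) c) * f s.1 c') = if c = c' then 1 else 0 := by
    intro c c'
    have hf2 : ∀ (s : {s : G // ¬ p ∣ orderOf s}) (c : Pt M G), res M (f s.1 c) =
        ptr (ResField M) c (MonoidAlgebra.of (ResField M) G s.1) := fun s c => hf s.1 s.2 c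
    simp only [map_sum, map_mul, hsec, hf2]
    have h1 : F (fun d => if d = c' then 1 else 0) = fun s : {s : G // ¬ p ∣ orderOf s} =>
        ptr (ResField M) c' (MonoidAlgebra.of (ResField M) G s.1) := by
      funext s; simp [F]
    have h2 := congrFun (LinearMap.congr_fun hR (fun d => if d = c' then 1 else 0)) c
    simp only [LinearMap.coe_comp, Function.comp_apply, LinearMap.id_coe, id_eq, h1] at h2
    rw [← h2, LinearMap.pi_apply_eq_sum_univ R, Finset.sum_apply]
    refine Finset.sum_congr rfl fun s _ => ?_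
    rw [Pi.smul_apply, smul_eq_mul, mul_comm]
    congr 2
    exact congrFun (congrArg R (funext fun t => if_congr eq_comm rfl rfl)) c
  obtain ⟨W, hW⟩ := exists_leftInverse_of_res _ _ key
  funext c
  calc z c = ∑ c', z c' * ∑ s : {s : G // ¬ p ∣ orderOf s}, W c s * (f s.1 c' : ℂ) := by
        simp [hW]
    _ = ∑ s : {s : G // ¬ p ∣ orderOf s}, W c s * ∑ c', z c' * (f s.1 c' : ℂ) := by
        simp only [Finset.mul_sum]; rw [Finset.sum_comm]
        exact Finset.sum_congr rfl fun _ _ => Finset.sum_congr rfl fun _ _ => by ring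
    _ = 0 := Finset.sum_eq_zero fun s _ => by rw [hz s.1 s.2, mul_zero]

end Setting

end Cfsg.Agent.H41.BrauerChar
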