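import Cfsg.Agent.H41.GroupRingTrace
import Cfsg.Agent.H20.SchurZassenhaus
import Cfsg.Agent.S0868
import Cfsg.Agent.H42.Arith
import Cfsg.Agent.H56.Clifford

/-!
# Supports of central idempotents vanishing at singular elements

For a central idempotent `u` over an invariant character `θ` of a normal `p'`-subgroup `K`, with
`M / K` a normal `p`-section and `a` the idempotent of an invariant extension of `θ` to `M`, the
idempotent identity for `u * a` compared with that of `u` forces every regular element of the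
support to centralise `M / K`.
-/

set_option autoImplicit false
set_option linter.unusedSectionVars false

open scoped ComplexConjugate

namespace Cfsg.Agent.H41.DegWeighted

open MonoidAlgebra GRing
open Cfsg.Agent.H40 (embedH coeff_embedH_coe coeff_embedH_of_not_mem ext_coeff coeff_mul_eq_sum)
open Cfsg (IrrCharacter)

universe u

variable {G : Type u} [Group G] [Fintype G]

open scoped Classical in
/-- The coefficient of the idempotent of one character. -/
theorem blockCoeff_singleton {H : Type u} [Group H] [Finite H] (θ : IrrCharacter H) (h : H) :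
    Cfsg.blockCoeff ({θ} : Set (IrrCharacter H)) h =
      (Nat.card H : ℂ)⁻¹ * ((θ : H → ℂ) 1 * conj ((θ : H → ℂ) h)) := by
  rw [Cfsg.blockCoeff, finsum_mem_singleton]

/-- The idempotent of one character of a subgroup, in the whole group algebra. -/
noncomputable def idemOf (K : Subgroup G) (θ : IrrCharacter K) : MonoidAlgebra ℂ G :=
  embedH ℂ K (H41.blockIdem ({θ} : Set (IrrCharacter K)) : MonoidAlgebra ℂ K)

theorem coeff_idemOf (K : Subgroup G) (θ : IrrCharacter K) (k : K) :
    (idemOf K θ).coeff (k : G) =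
      (Nat.card K : ℂ)⁻¹ * ((θ : K → ℂ) 1 * conj ((θ : K → ℂ) k)) := by
  rw [idemOf, coeff_embedH_coe, H41.coeff_blockIdem, blockCoeff_singleton]

theorem supp_idemOf (K : Subgroup G) (θ : IrrCharacter K) : Supp (K : Set G) (idemOf K θ) :=
  fun _ h => coeff_embedH_of_not_mem _ h

theorem blockIdem_singleton_mul {H : Type u} [Group H] [Finite H] (θ : IrrCharacter H) :
    H41.blockIdem ({θ} : Set (IrrCharacter H)) * H41.blockIdem ({θ} : Set (IrrCharacter H)) =
      H41.blockIdem ({θ} : Set (IrrCharacter H)) := by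
  classical
  refine H41.center_ext_omega fun ψ => ?_
  rw [map_mul, H41.omega_blockIdem]
  split <;> simp

theorem idemOf_mul_self (K : Subgroup G) (θ : IrrCharacter K) :
    idemOf K θ * idemOf K θ = idemOf K θ := by
  rw [idemOf, ← map_mul]
  exact congrArg _ (congrArg Subtype.val (blockIdem_singleton_mul θ))

theorem adj_idemOf (K : Subgroup G) (θ : IrrCharacter K) :
    GRing.adj (idemOf K θ) = idemOf K θ := by
  refine ext_coeff fun g => ?_
  rw [coeff_adj]
  by_cases hg : g ∈ K
  · have h1 := coeff_idemOf K θ ⟨g, hg⟩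
    have h2 := coeff_idemOf K θ ⟨g, hg⟩⁻¹
    simp only [InvMemClass.coe_inv] at h1 h2
    rw [h1, h2, H26.irr_inv, map_mul, map_mul, map_inv₀, Complex.conj_natCast, Complex.conj_conj]
    rw [H42.irr_one_eq, Complex.conj_natCast]
  · rw [supp_idemOf K θ g hg, supp_idemOf K θ g⁻¹ (fun h => hg (inv_mem_iff.1 h)), map_zero]

theorem commK_idemOf (K : Subgroup G) (θ : IrrCharacter K) : CommK K (idemOf K θ) := by
  intro k hk
  have e : MonoidAlgebra.single k (1 : ℂ) = embedH ℂ K (MonoidAlgebra.single ⟨k, hk⟩ 1) := by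
    show _ = MonoidAlgebra.mapDomain _ _
    rw [MonoidAlgebra.mapDomain_single]
    rfl
  rw [idemOf, e, ← map_mul, ← map_mul]
  exact congrArg _ (Subalgebra.mem_center_iff.1
    (H41.blockIdem ({θ} : Set (IrrCharacter K))).2 _)

/-- An invariant character gives a central idempotent. -/
theorem commute_idemOf (K : Subgroup G) [hK : K.Normal] (θ : IrrCharacter K)
    (hinv : ∀ (g : G) (k : K), (θ : K → ℂ) ⟨g * k * g⁻¹, hK.conj_mem k k.2 g⟩ = (θ : K → ℂ) k)
    (y : MonoidAlgebra ℂ G) : Commute (idemOf K θ) y := by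
  refine commute_of_class (fun g k => ?_) y
  by_cases hg : g ∈ K
  · have h1 := coeff_idemOf K θ ⟨g, hg⟩
    have h2 := coeff_idemOf K θ ⟨k * g * k⁻¹, hK.conj_mem g hg k⟩
    simp only at h1 h2
    rw [h1, h2, hinv k ⟨g, hg⟩]
  · rw [supp_idemOf K θ g hg, supp_idemOf K θ _ fun h => hg (by
      simpa [mul_assoc] using hK.conj_mem _ h k⁻¹)]

/-- Regular elements congruent modulo the `p`-section are conjugate modulo `K`. -/
theorem exists_conj_mem_coset {p : ℕ} [hp : Fact p.Prime] {K M : Subgroup G} [K.Normal] [M.Normal]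
    (hMp : IsPGroup p (M.map (QuotientGroup.mk' K))) {g h : G} (hg : ¬ p ∣ orderOf g)
    (hh : ¬ p ∣ orderOf h) (hgh : h ∈ lcoset M g) :
    ∃ w ∈ M, w * g * w⁻¹ ∈ lcoset K h := by
  set π := QuotientGroup.mk' K
  set P := M.map π with hP
  have hPn : P.Normal := Subgroup.Normal.map inferInstance π (QuotientGroup.mk'_surjective K)
  set x := π g
  set y := π h
  have hx : ¬ p ∣ orderOf x := fun hd => hg (hd.trans (orderOf_map_dvd π g))
  have hy : ¬ p ∣ orderOf y := fun hd => hh (hd.trans (orderOf_map_dvd π h))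
  have hxy : x⁻¹ * y ∈ P := ⟨g⁻¹ * h, hgh, by simp [x, y]⟩
  have hcopx : (Nat.card (Subgroup.zpowers x)).Coprime (Nat.card P) := by
    obtain ⟨k, hk⟩ := IsPGroup.iff_card.1 hMp
    rw [hk, Nat.card_zpowers]
    exact ((Nat.Prime.coprime_iff_not_dvd hp.out).2 hx).symm.pow_right k
  have hcopy : (Nat.card (Subgroup.zpowers y)).Coprime (Nat.card P) := by
    obtain ⟨k, hk⟩ := IsPGroup.iff_card.1 hMp
    rw [hk, Nat.card_zpowers]
    exact ((Nat.Prime.coprime_iff_not_dvd hp.out).2 hy).symm.pow_right k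
  have hnorm : ∀ H : Subgroup (G ⧸ K), H ≤ Subgroup.normalizer (P : Set (G ⧸ K)) := fun H => by
    rw [Subgroup.normalizer_eq_top]; exact le_top
  have hyle : Subgroup.zpowers y ≤ P ⊔ Subgroup.zpowers x := by
    rw [Subgroup.zpowers_le]
    have : y = (x * (x⁻¹ * y) * x⁻¹) * x := by group
    rw [this]
    exact mul_mem (Subgroup.mem_sup_left (hPn.conj_mem _ hxy x))
      (Subgroup.mem_sup_right (Subgroup.mem_zpowers x))
  have hxle : Subgroup.zpowers x ≤ P ⊔ Subgroup.zpowers y := by
    rw [Subgroup.zpowers_le]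
    have : x = (y * (x⁻¹ * y)⁻¹ * y⁻¹) * y := by group
    rw [this]
    exact mul_mem (Subgroup.mem_sup_left (hPn.conj_mem _ (inv_mem hxy) y))
      (Subgroup.mem_sup_right (Subgroup.mem_zpowers y))
  have hcard : Nat.card (Subgroup.zpowers y) = Nat.card (Subgroup.zpowers x) := by
    have h1 := H20.card_sup_of_coprime (hnorm (Subgroup.zpowers x)) hcopx
    have h2 := H20.card_sup_of_coprime (hnorm (Subgroup.zpowers y)) hcopy
    rw [le_antisymm (sup_le le_sup_left hxle) (sup_le le_sup_left hyle), h2] at h1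
    exact Nat.eq_of_mul_eq_mul_left Nat.card_pos h1
  obtain ⟨v, hv, e⟩ := H20.exists_conj_eq_of_coprime (hnorm _) hcopx (Or.inl inferInstance) hyle
    hcard
  have h1 : v * x * v⁻¹ ∈ Subgroup.zpowers y := by
    rw [← e, H20.mem_conj_smul]
    simp [mul_assoc]
  have h2 : y⁻¹ * (v * x * v⁻¹) ∈ P := by
    have : y⁻¹ * (v * x * v⁻¹) = (y⁻¹ * v * y) * (x⁻¹ * y)⁻¹ * v⁻¹ := by group
    rw [this]
    exact mul_mem (mul_mem (by simpa using hPn.conj_mem _ hv y⁻¹) (inv_mem hxy)) (inv_mem hv)
  have h3 : y⁻¹ * (v * x * v⁻¹) = 1 := by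
    have h4 : y⁻¹ * (v * x * v⁻¹) ∈ Subgroup.zpowers y ⊓ P :=
      ⟨(Subgroup.zpowers y).mul_mem ((Subgroup.zpowers y).inv_mem (Subgroup.mem_zpowers y)) h1, h2⟩
    rwa [Subgroup.inf_eq_bot_of_coprime hcopy, Subgroup.mem_bot] at h4
  obtain ⟨w, hw, rfl⟩ := hv
  refine ⟨w, hw, ?_⟩
  rw [mem_lcoset, ← QuotientGroup.eq_one_iff]
  simpa [π, x, y] using h3

/-- The support statement. -/
theorem conj_mem_of_ne_zero {p : ℕ} [hp : Fact p.Prime] (K M : Subgroup G) [hKn : K.Normal]
    [hMn : M.Normal] (hKM : K ≤ M) (hKp : ¬ p ∣ Nat.card K)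
    (hMp : IsPGroup p (M.map (QuotientGroup.mk' K))) (θ : IrrCharacter K) (ξ : IrrCharacter M)
    (hξ : ∀ k : K, (ξ : M → ℂ) ⟨k, hKM k.2⟩ = (θ : K → ℂ) k)
    (hinvξ : ∀ (g : G) (m : M), (ξ : M → ℂ) ⟨g * m * g⁻¹, hMn.conj_mem m m.2 g⟩ = (ξ : M → ℂ) m)
    (u : MonoidAlgebra ℂ G) (huc : ∀ y, Commute u y) (hui : u * u = u)
    (hua : GRing.adj u = u) (hus : ∀ g, p ∣ orderOf g → u.coeff g = 0)
    (hue : u * idemOf K θ = u)
    {g : G} (hg : ¬ p ∣ orderOf g) (hne : u.coeff g ≠ 0) {w : G} (hw : w ∈ M) :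
    g⁻¹ * (w * g * w⁻¹) ∈ K := by
  classical
  haveI := Fintype.ofFinite K
  haveI := Fintype.ofFinite M
  set ε := idemOf K θ with hε
  set a := idemOf M ξ with ha
  have hac : ∀ y, Commute a y := commute_idemOf M ξ hinvξ
  have hai : a * a = a := idemOf_mul_self M ξ
  have haa : GRing.adj a = a := adj_idemOf M ξ
  have hMs : Supp (M : Set G) a := supp_idemOf M ξ
  have hεs : Supp (K : Set G) ε := supp_idemOf K θ
  have hd : (ξ : M → ℂ) 1 = (θ : K → ℂ) 1 := by
    have := hξ 1
    exact this
  -- regular elements of `M`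
  have hregM : ∀ m ∈ M, ¬ p ∣ orderOf m → m ∈ K := by
    intro m hm hm'
    rw [← QuotientGroup.eq_one_iff, ← orderOf_eq_one_iff]
    obtain ⟨j, hj⟩ := IsPGroup.iff_orderOf.1 hMp ⟨_, Subgroup.mem_map_of_mem _ hm⟩
    rw [Subgroup.orderOf_mk] at hj
    change orderOf (QuotientGroup.mk' K m) = 1
    rw [hj]
    rcases j with _ | j
    · rfl
    · exact absurd ((dvd_pow_self p j.succ_ne_zero).trans (hj ▸ orderOf_map_dvd _ m)) hm'
  have hcoset : ∀ x y : G, ¬ p ∣ orderOf x → y ∈ lcoset K x → ¬ p ∣ orderOf y := by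
    intro x y hx hy hd'
    have e : QuotientGroup.mk' K y = QuotientGroup.mk' K x := (QuotientGroup.eq.2 hy).symm
    set n := orderOf (QuotientGroup.mk' K x)
    have hn : ¬ p ∣ n := fun h => hx (h.trans (orderOf_map_dvd _ x))
    have h1 : y ^ n ∈ K := by
      rw [← QuotientGroup.eq_one_iff]
      show QuotientGroup.mk' K (y ^ n) = 1
      rw [map_pow, e, pow_orderOf_eq_one]
    have h2 : orderOf y ∣ n * Nat.card K := by
      rw [orderOf_dvd_iff_pow_eq_one, pow_mul]
      exact congrArg Subtype.val (pow_card_eq_one' (x := (⟨y ^ n, h1⟩ : K)))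
    exact (hp.out.not_dvd_mul hn hKp) (hd'.trans h2)
  -- the ratio
  set c : ℂ := (Nat.card K : ℂ) / (Nat.card M : ℂ) with hc
  set cR : ℝ := (Nat.card K : ℝ) / (Nat.card M : ℝ) with hcR
  have hcc : (cR : ℂ) = c := by rw [hc, hcR]; push_cast; rfl
  have hcpos : 0 < cR := div_pos (Nat.cast_pos.2 Nat.card_pos) (Nat.cast_pos.2 Nat.card_pos)
  have hc0 : c ≠ 0 := by rw [← hcc]; exact_mod_cast hcpos.ne'
  have hKM0 : (Nat.card K : ℂ) ≠ 0 := Nat.cast_ne_zero.2 Nat.card_pos.ne'
  have hM0 : (Nat.card M : ℂ) ≠ 0 := Nat.cast_ne_zero.2 Nat.card_pos.ne'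
  have haK : ∀ k ∈ K, a.coeff k = c * ε.coeff k := by
    intro k hk
    have h1 := coeff_idemOf M ξ ⟨k, hKM hk⟩
    have h2 := coeff_idemOf K θ ⟨k, hk⟩
    simp only at h1 h2
    rw [ha, hε, h1, h2, hd, hξ ⟨k, hk⟩, hc]
    field_simp
  -- trace of a `K`-supported element times `a`
  have htr : ∀ y : MonoidAlgebra ℂ G, Supp (K : Set G) y →
      (y * a).coeff 1 = c * (y * ε).coeff 1 := by
    intro y hy
    rw [coeff_mul_eq_sum, coeff_mul_eq_sum, Finset.mul_sum]
    refine Finset.sum_congr rfl fun s _ => ?_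
    by_cases hs : s ∈ K
    · rw [mul_one, haK _ (inv_mem hs)]; ring
    · rw [hy s hs, zero_mul, zero_mul, mul_zero]
  -- norm of a product with `a`
  have hnorm : ∀ (x₀ : G) (z : MonoidAlgebra ℂ G), Supp (lcoset K x₀) z → ε * z = z →
      nsq (z * a) = cR * nsq z := by
    intro x₀ z hz hzε
    refine Complex.ofReal_injective ?_
    rw [Complex.ofReal_mul, hcc, ← coeff_mul_adj_self, ← coeff_mul_adj_self, adj_mul, haa]
    rw [show z * a * (a * GRing.adj z) = z * GRing.adj z * a by
      rw [mul_assoc z a, ← mul_assoc a a, hai, (hac _).eq, mul_assoc]]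
    have hs : Supp (K : Set G) (z * GRing.adj z) := by
      refine supp_mul (fun s hs t ht => ?_) hz (supp_adj hz)
      simp only [Set.mem_setOf_eq, mem_lcoset] at hs ht
      have h3 := K.mul_mem hs (K.inv_mem ht)
      have h4 := hKn.conj_mem _ h3 x₀
      simpa [mul_assoc] using h4
    rw [htr _ hs, coeff_mul_one_comm, ← mul_assoc, hzε]
  -- `a` lies over `θ`
  have hae : a * ε = a := by
    refine sub_eq_zero.1 (nsq_eq_zero (Complex.ofReal_injective ?_))
    rw [← coeff_mul_adj_self]
    have hεa : GRing.adj ε = ε := adj_idemOf K θ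
    have hεi : ε * ε = ε := idemOf_mul_self K θ
    have e1 : GRing.adj (a * ε - a) = ε * a - a := by
      refine ext_coeff fun y => ?_
      have e2 : GRing.adj (a * ε) = ε * a := by rw [adj_mul, haa, hεa]
      have e3 := congrArg (fun v : MonoidAlgebra ℂ G => v.coeff y) e2
      have e4 := congrArg (fun v : MonoidAlgebra ℂ G => v.coeff y) haa
      simp only [coeff_adj, MonoidAlgebra.coeff_sub, Finsupp.sub_apply, map_sub] at e3 e4 ⊢
      rw [e3, e4]
    rw [e1, show (a * ε - a) * (ε * a - a) = a - a * ε by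
      rw [sub_mul, mul_sub, mul_sub, hai, mul_assoc a ε (ε * a), ← mul_assoc ε ε a, hεi,
        ← mul_assoc a ε a, mul_assoc a ε a, ← (hac ε).eq, ← mul_assoc a a ε, hai]
      abel]
    rw [MonoidAlgebra.coeff_sub, Finsupp.sub_apply, (hac ε).eq, htr ε hεs, hεi, haK 1 K.one_mem,
      sub_self]
    simp
  -- an element of `M` acts on `a` through the group algebra of `K`
  have hwa : ∀ w' ∈ M, ∃ t : MonoidAlgebra ℂ G, Supp (K : Set G) t ∧
      MonoidAlgebra.single w' (1 : ℂ) * a = t * a := by
    intro w' hw'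
    set v := MonoidAlgebra.single w' (1 : ℂ) * a with hv
    set P := proj (lcoset K 1) v with hP
    set t := c⁻¹ • P with ht
    have hPs : Supp (K : Set G) P := fun y hy =>
      coeff_proj_of_notMem (by simpa [mem_lcoset] using hy) v
    have hts : Supp (K : Set G) t := fun y hy => by
      rw [ht, MonoidAlgebra.coeff_smul, Finsupp.smul_apply, hPs y hy, smul_zero]
    have hvε : v * ε = v := by rw [hv, mul_assoc, hae]
    have hεt : ε * t = t := by
      rw [← (commK_idemOf K θ).commute hts, ht, smul_mul_assoc]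
      rw [hP, ← proj_mul 1 v hεs, hvε]
    refine ⟨t, hts, sub_eq_zero.1 (nsq_eq_zero (Complex.ofReal_injective ?_))⟩
    have hd1 : a.coeff 1 = (Nat.card M : ℂ)⁻¹ * ((θ : K → ℂ) 1 * conj ((θ : K → ℂ) 1)) := by
      have h1 := coeff_idemOf M ξ 1
      simp only [OneMemClass.coe_one] at h1
      rw [ha, h1, hd]
    -- the coset norm of the extension
    have hPn : (nsq P : ℂ) = c * a.coeff 1 := by
      have hN : (K.subgroupOf M).Normal := inferInstance
      haveI := Fintype.ofFinite (K.subgroupOf M)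
      let e := Subgroup.subgroupOfEquivOfLe hKM
      have hres : Cfsg.IsIrrCharacter (K.subgroupOf M)
          (fun n : K.subgroupOf M => (ξ : M → ℂ) n) := by
        have e0 : (fun n : K.subgroupOf M => (ξ : M → ℂ) n) =
            fun n => (θ : K → ℂ) (e n) := funext fun n => hξ (e n)
        rw [e0]
        exact H56.isIrrCharacter_comp_equiv θ.2 e
      have hS := congrFun ((S0868.result (K.subgroupOf M) (ξ : M → ℂ) ξ.2 hres (ξ : M → ℂ) ξ.2 _
        rfl).2.2 rfl) ⟨w'⁻¹, inv_mem hw'⟩
      have hcard : Nat.card (K.subgroupOf M) = Nat.card K := Nat.card_congr e.toEquiv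
      rw [hcard, inv_mul_eq_one₀ hKM0] at hS
      have hPy : ∀ y, (P.coeff y) = if y ∈ K then a.coeff (y * w'⁻¹) else 0 := by
        intro y
        split_ifs with hy
        · rw [hP, coeff_proj_of_mem (by simpa [mem_lcoset] using hy), hv,
            MonoidAlgebra.coeff_single_mul_apply, one_mul]
          have h := (H40.mem_center_iff_coeff.1 (Subalgebra.mem_center_iff.2
            fun b => ((hac b).eq).symm)) (y * w'⁻¹) w'⁻¹
          rw [← h]
          congr 1
          group
        · rw [hP, coeff_proj_of_notMem (by simpa [mem_lcoset] using hy)]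
      rw [← coeff_mul_adj_self, coeff_mul_adj_one,
        ← Finset.sum_subset (Finset.subset_univ (Finset.univ.filter (· ∈ K))) (fun y _ hy => by
          rw [hPy y, if_neg (by simpa using hy), zero_mul]),
        Finset.sum_subtype (Finset.univ.filter (· ∈ K)) (p := (· ∈ K)) (fun y => by simp)]
      rw [← Fintype.sum_equiv e.toEquiv
        (fun n : K.subgroupOf M => P.coeff ((n : M) : G) * conj (P.coeff ((n : M) : G))) _
        fun n => rfl]
      have hterm : ∀ n : K.subgroupOf M, P.coeff ((n : M) : G) * conj (P.coeff ((n : M) : G)) =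
          ((Nat.card M : ℂ)⁻¹ * (θ : K → ℂ) 1) * conj ((Nat.card M : ℂ)⁻¹ * (θ : K → ℂ) 1) *
            ((ξ : M → ℂ) ((n : M) * ⟨w'⁻¹, inv_mem hw'⟩) *
              conj ((ξ : M → ℂ) ((n : M) * ⟨w'⁻¹, inv_mem hw'⟩))) := by
        intro n
        have h1 := coeff_idemOf M ξ ((n : M) * ⟨w'⁻¹, inv_mem hw'⟩)
        simp only [Subgroup.coe_mul] at h1
        rw [hPy, if_pos (Subgroup.mem_subgroupOf.1 n.2), ha, h1, hd]
        simp only [map_mul, Complex.conj_conj]
        ring
      rw [Finset.sum_congr rfl fun n _ => hterm n, ← Finset.mul_sum, ← hS, hd1, hc]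
      simp only [map_mul, map_inv₀, Complex.conj_natCast]
      field_simp
    have hta : (nsq (t * a) : ℂ) = c * ((c⁻¹ * conj c⁻¹) * nsq P) := by
      rw [hnorm 1 t (fun y hy => hts y fun h => hy (by simpa [mem_lcoset] using h)) hεt,
        Complex.ofReal_mul, hcc, ← coeff_mul_adj_self t, ← coeff_mul_adj_self P, coeff_mul_adj_one,
        coeff_mul_adj_one, Finset.mul_sum (a := c⁻¹ * conj c⁻¹)]
      congr 1
      refine Finset.sum_congr rfl fun y _ => ?_
      rw [ht, MonoidAlgebra.coeff_smul, Finsupp.smul_apply, smul_eq_mul, map_mul]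
      ring
    have hcconj : conj c = c := by rw [← hcc, Complex.conj_ofReal]
    have hvv : (nsq v : ℂ) = a.coeff 1 := by
      rw [← coeff_mul_adj_self, hv, adj_mul, haa, adj_single, ← mul_assoc, mul_assoc _ a a, hai,
        coeff_mul_one_comm, ← mul_assoc, MonoidAlgebra.single_mul_single, inv_mul_cancel, one_mul,
        ← MonoidAlgebra.one_def, one_mul]
    have hcross : ∑ y : G, v.coeff y * conj ((t * a).coeff y) = c⁻¹ * nsq P := by
      rw [← coeff_mul_adj_one, adj_mul, haa, ← mul_assoc,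
        show v * a = v by rw [hv, mul_assoc, hai], coeff_mul_adj_one, ← coeff_mul_adj_self,
        coeff_mul_adj_one, Finset.mul_sum]
      refine Finset.sum_congr rfl fun y _ => ?_
      rw [ht, MonoidAlgebra.coeff_smul, Finsupp.smul_apply, smul_eq_mul, map_mul, map_inv₀, hcconj]
      by_cases hy : y ∈ lcoset K 1
      · rw [hP, coeff_proj_of_mem hy]; ring
      · rw [hP, coeff_proj_of_notMem hy]; simp
    rw [← coeff_mul_adj_self, coeff_mul_adj_one]
    have hexp : ∀ y : G, (v - t * a).coeff y * conj ((v - t * a).coeff y) =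
        v.coeff y * conj (v.coeff y) - v.coeff y * conj ((t * a).coeff y) -
          conj (v.coeff y * conj ((t * a).coeff y)) +
          (t * a).coeff y * conj ((t * a).coeff y) := by
      intro y
      simp only [MonoidAlgebra.coeff_sub, Finsupp.sub_apply, map_sub, map_mul, Complex.conj_conj]
      ring
    rw [Finset.sum_congr rfl fun y _ => hexp y, Finset.sum_add_distrib, Finset.sum_sub_distrib,
      Finset.sum_sub_distrib, ← map_sum, hcross, ← coeff_mul_adj_one, ← coeff_mul_adj_one,
      coeff_mul_adj_self, coeff_mul_adj_self, hvv, hta, map_mul, map_inv₀, hcconj,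
      Complex.conj_ofReal, hPn]
    simp only [Complex.ofReal_zero]
    field_simp
    ring
  have hconj : ∀ x₀ x w' : G, w' * x₀ * w'⁻¹ ∈ lcoset K x → proj (lcoset K x) u =
      MonoidAlgebra.single w' (1 : ℂ) * proj (lcoset K x₀) u *
        MonoidAlgebra.single w'⁻¹ 1 := by
    intro x₀ x w' hk
    refine ext_coeff fun y => ?_
    rw [coeff_conj]
    have hiff : w'⁻¹ * y * w' ∈ lcoset K x₀ ↔ y ∈ lcoset K x := by
      rw [← lcoset_eq_of_mem hk, mem_lcoset, mem_lcoset]
      constructor <;> intro h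
      · simpa [mul_assoc] using hKn.conj_mem _ h w'
      · simpa [mul_assoc] using hKn.conj_mem _ h w'⁻¹
    by_cases hy : y ∈ lcoset K x
    · rw [coeff_proj_of_mem hy, coeff_proj_of_mem (hiff.2 hy)]
      have e1 := congrArg (fun v : MonoidAlgebra ℂ G => v.coeff y)
        (show MonoidAlgebra.single w' (1 : ℂ) * u * MonoidAlgebra.single w'⁻¹ 1 = u by
          rw [← (huc (MonoidAlgebra.single w' (1 : ℂ))).eq, mul_assoc,
            MonoidAlgebra.single_mul_single, mul_inv_cancel, one_mul, ← MonoidAlgebra.one_def,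
            mul_one])
      rw [← e1, coeff_conj]
    · rw [coeff_proj_of_notMem hy, coeff_proj_of_notMem fun h => hy (hiff.1 h)]
  -- all regular cosets inside a coset of `M` agree after multiplication by `a`
  have hagree : ∀ x₀ x : G, ¬ p ∣ orderOf x₀ → ¬ p ∣ orderOf x → x ∈ lcoset M x₀ →
      proj (lcoset K x) u * a = proj (lcoset K x₀) u * a := by
    intro x₀ x hx₀ hx hxx
    obtain ⟨w', hw', hk⟩ := exists_conj_mem_coset hMp hx₀ hx hxx
    set z := proj (lcoset K x₀) u with hz
    obtain ⟨t, ht, hta⟩ := hwa w' hw'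
    have hzK : CommK K z := (commK_of_commute huc).proj x₀
    have e2 : ∀ y : MonoidAlgebra ℂ G, z * (MonoidAlgebra.single w' (1 : ℂ) * (a * y)) =
        MonoidAlgebra.single w' (1 : ℂ) * (z * (a * y)) := by
      intro y
      rw [← mul_assoc (MonoidAlgebra.single w' (1 : ℂ)) a, hta, ← mul_assoc z, ← mul_assoc z t,
        ← hzK.commute ht, mul_assoc t z, ← (hac z).eq, ← mul_assoc t a, ← hta]
      simp only [mul_assoc]
      rw [← mul_assoc a z y, (hac z).eq, mul_assoc]
    rw [hconj x₀ x w' hk]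
    calc MonoidAlgebra.single w' (1 : ℂ) * z * MonoidAlgebra.single w'⁻¹ 1 * a
        = MonoidAlgebra.single w' (1 : ℂ) * (z * (a * MonoidAlgebra.single w'⁻¹ 1)) := by
          rw [(hac (MonoidAlgebra.single w'⁻¹ (1 : ℂ))).eq, mul_assoc, mul_assoc]
      _ = z * a := by
          rw [← e2, (hac (MonoidAlgebra.single w'⁻¹ (1 : ℂ))).eq,
            ← mul_assoc (MonoidAlgebra.single w' (1 : ℂ)), MonoidAlgebra.single_mul_single,
            mul_inv_cancel, one_mul, ← MonoidAlgebra.one_def, one_mul]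
  -- the trace of `u * a`
  have hiua : u * a * (u * a) = u * a := by
    rw [← mul_assoc, mul_assoc u a u, (hac u).eq, ← mul_assoc u u a, hui, mul_assoc, hai]
  have hn1 : nsq (u * a) = cR * nsq u := by
    refine Complex.ofReal_injective ?_
    rw [Complex.ofReal_mul, hcc, ← coeff_mul_adj_self, ← coeff_mul_adj_self, adj_mul, haa, hua,
      (hac u).eq, hiua, hui]
    have h1 : (u * a).coeff 1 = (proj (lcoset M 1) u * a).coeff 1 := by
      rw [← proj_mul 1 u hMs, coeff_proj_of_mem]
      simp [mem_lcoset]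
    have h2 : proj (lcoset M 1) u = proj (lcoset K 1) u := by
      refine ext_coeff fun y => ?_
      by_cases hy : y ∈ lcoset M 1
      · rw [coeff_proj_of_mem hy]
        by_cases hy' : y ∈ lcoset K 1
        · rw [coeff_proj_of_mem hy']
        · rw [coeff_proj_of_notMem hy', hus]
          by_contra hcon
          have hyM : y ∈ M := by rw [mem_lcoset] at hy; simpa using hy
          exact hy' (mem_lcoset.2 (by simpa using hregM y hyM hcon))
      · rw [coeff_proj_of_notMem hy, coeff_proj_of_notMem (fun h => hy (hKM h) : y ∉ lcoset K 1)]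
    rw [h1, h2, htr _ (fun y hy => coeff_proj_of_notMem (by simpa [mem_lcoset] using hy) u),
      ← proj_mul 1 u hεs, hue, coeff_proj_of_mem]
    simp [mem_lcoset]
  -- coset by coset
  have hcos : ∀ x₀ : G, ¬ p ∣ orderOf x₀ →
      ∃ R : ℕ, Nat.card K ≤ R ∧
      nsq (proj (lcoset M x₀) (u * a)) = ((R : ℝ) / Nat.card K) ^ 2 *
        (cR * nsq (proj (lcoset K x₀) u)) ∧
      nsq (proj (lcoset M x₀) u) = ((R : ℝ) / Nat.card K) * nsq (proj (lcoset K x₀) u) ∧
      (R = Nat.card K → ∀ x, ¬ p ∣ orderOf x → x ∈ lcoset M x₀ → x ∈ lcoset K x₀) := by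
    intro x₀ hx₀
    set S := Finset.univ.filter (fun x : G => ¬ p ∣ orderOf x ∧ x ∈ lcoset M x₀) with hS
    set T := Finset.univ.filter (fun x : G => x ∈ lcoset K x₀) with hT
    have hTcard : T.card = Nat.card K := by
      rw [Nat.card_eq_fintype_card, hT]
      refine (Finset.card_bij (fun (k : K) _ => x₀ * k) (fun k _ => ?_) (fun k _ l _ h => ?_)
        fun x hx => ?_).symm
      · simp [mem_lcoset]
      · exact Subtype.ext (mul_left_cancel h)
      · rw [Finset.mem_filter, mem_lcoset] at hx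
        exact ⟨⟨_, hx.2⟩, Finset.mem_univ _, by simp⟩
    have hTS : T ⊆ S := fun x hx => by
      rw [Finset.mem_filter] at hx ⊢
      exact ⟨Finset.mem_univ _, hcoset x₀ x hx₀ hx.2, hKM hx.2⟩
    have hrow : ∀ y : G, (y ∈ S) → (S.filter fun x => y ∈ lcoset K x).card = Nat.card K := by
      intro y hy
      rw [Finset.mem_filter] at hy
      rw [Nat.card_eq_fintype_card]
      refine (Finset.card_bij (fun (k : K) _ => y * k) (fun k _ => ?_) (fun k _ l _ h => ?_)
        fun x hx => ?_).symm
      · rw [Finset.mem_filter, Finset.mem_filter]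
        refine ⟨⟨Finset.mem_univ _, hcoset y _ hy.2.1 (by simp [mem_lcoset]), ?_⟩, ?_⟩
        · rw [mem_lcoset, ← mul_assoc]
          exact M.mul_mem hy.2.2 (hKM k.2)
        · simp [mem_lcoset]
      · exact Subtype.ext (mul_left_cancel h)
      · rw [Finset.mem_filter, mem_lcoset] at hx
        exact ⟨⟨y⁻¹ * x, by simpa using K.inv_mem hx.2⟩, Finset.mem_univ _, by simp⟩
    have hdec : ∑ x ∈ S, proj (lcoset K x) u =
        (Nat.card K : ℂ) • proj (lcoset M x₀) u := by
      refine ext_coeff fun y => ?_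
      rw [MonoidAlgebra.coeff_sum, Finsupp.finsetSum_apply, MonoidAlgebra.coeff_smul,
        Finsupp.smul_apply, smul_eq_mul]
      have e : ∀ x, (proj (lcoset K x) u).coeff y =
          if y ∈ lcoset K x then u.coeff y else 0 := fun x => by
        split_ifs with h
        · exact coeff_proj_of_mem h u
        · exact coeff_proj_of_notMem h u
      rw [Finset.sum_congr rfl fun x _ => e x, ← Finset.sum_filter, Finset.sum_const, nsmul_eq_mul]
      by_cases hyS : y ∈ S
      · rw [hrow y hyS, coeff_proj_of_mem (Finset.mem_filter.1 hyS).2.2]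
      · by_cases hp' : p ∣ orderOf y
        · rw [hus y hp', mul_zero]
          by_cases hyM : y ∈ lcoset M x₀
          · rw [coeff_proj_of_mem hyM, hus y hp', mul_zero]
          · rw [coeff_proj_of_notMem hyM, mul_zero]
        · rw [coeff_proj_of_notMem (fun h => hyS (Finset.mem_filter.2 ⟨Finset.mem_univ _, hp', h⟩)),
            Finset.filter_eq_empty_iff.2 fun x hx hxy => hyS (Finset.mem_filter.2
              ⟨Finset.mem_univ _, hp', ?_⟩)]
          · simp
          · rw [← lcoset_eq_of_mem (Finset.mem_filter.1 hx).2.2]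
            exact hKM hxy
    refine ⟨S.card, hTcard ▸ Finset.card_le_card hTS, ?_, ?_, fun hR x hx hxM => ?_⟩
    · have h1 : proj (lcoset M x₀) (u * a) =
          (((S.card : ℝ) / Nat.card K : ℝ) : ℂ) • (proj (lcoset K x₀) u * a) := by
        rw [proj_mul x₀ u hMs]
        have h2 : (∑ x ∈ S, proj (lcoset K x) u) * a = (S.card : ℂ) • (proj (lcoset K x₀) u * a) := by
          rw [Finset.sum_mul, Finset.sum_congr rfl fun x hx =>
            hagree x₀ x hx₀ (Finset.mem_filter.1 hx).2.1 (Finset.mem_filter.1 hx).2.2,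
            Finset.sum_const, ← Nat.cast_smul_eq_nsmul ℂ]
        rw [hdec, smul_mul_assoc] at h2
        rw [← inv_smul_smul₀ hKM0 (proj (lcoset M x₀) u * a), h2, smul_smul]
        congr 1
        push_cast
        ring
      rw [h1, ← hnorm x₀ _ (supp_proj _ u) (by
        rw [((commK_of_commute huc).proj x₀).commute hεs, ← proj_mul x₀ u hεs, hue])]
      simp only [nsq, MonoidAlgebra.coeff_smul, Finsupp.smul_apply, smul_eq_mul, map_mul,
        Complex.normSq_ofReal, Finset.mul_sum, sq]
    · have hnc : ∀ x ∈ S, nsq (proj (lcoset K x) u) = nsq (proj (lcoset K x₀) u) := by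
        intro x hx
        obtain ⟨w', hw', hk⟩ := exists_conj_mem_coset hMp hx₀ (Finset.mem_filter.1 hx).2.1
          (Finset.mem_filter.1 hx).2.2
        rw [hconj x₀ x w' hk]
        exact Fintype.sum_equiv (MulAut.conj w'⁻¹).toEquiv _ _ fun y => by
          rw [coeff_conj]; simp
      refine Complex.ofReal_injective ?_
      rw [Complex.ofReal_mul, ← coeff_mul_adj_self]
      set q := proj (lcoset M x₀) u with hq
      have h1 : ∀ x ∈ S, (proj (lcoset K x) u * GRing.adj q).coeff 1 =
          (nsq (proj (lcoset K x₀) u) : ℂ) := by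
        intro x hx
        rw [← hnc x hx, ← coeff_mul_adj_self, coeff_mul_adj_one, coeff_mul_adj_one]
        refine Finset.sum_congr rfl fun y _ => ?_
        by_cases hy : y ∈ lcoset K x
        · have hyM : y ∈ lcoset M x₀ := lcoset_eq_of_mem (Finset.mem_filter.1 hx).2.2 ▸ hKM hy
          rw [hq, coeff_proj_of_mem hy, coeff_proj_of_mem hyM]
        · rw [coeff_proj_of_notMem hy, zero_mul, zero_mul]
      have h2 := congrArg (fun v : MonoidAlgebra ℂ G => (v * GRing.adj q).coeff 1) hdec
      simp only [Finset.sum_mul, MonoidAlgebra.coeff_sum, Finsupp.finsetSum_apply, smul_mul_assoc,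
        MonoidAlgebra.coeff_smul, Finsupp.smul_apply, smul_eq_mul] at h2
      rw [Finset.sum_congr rfl h1, Finset.sum_const, nsmul_eq_mul] at h2
      push_cast
      rw [div_mul_eq_mul_div, h2]
      field_simp
    · have hST : T = S := Finset.eq_of_subset_of_card_le hTS (by rw [hTcard, hR])
      have : x ∈ T := hST ▸ Finset.mem_filter.2 ⟨Finset.mem_univ _, hx, hxM⟩
      exact (Finset.mem_filter.1 this).2
  -- comparison
  have hge : ∀ x, 0 ≤ nsq (proj (lcoset M x) (u * a)) - cR * nsq (proj (lcoset M x) u) := by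
    intro x
    by_cases hex : ∃ x₀, ¬ p ∣ orderOf x₀ ∧ x₀ ∈ lcoset M x
    · obtain ⟨x₀, hx₀, hmem⟩ := hex
      obtain ⟨R, hR, e1, e2, -⟩ := hcos x₀ hx₀
      rw [← lcoset_eq_of_mem hmem, e1, e2]
      have hr : (1 : ℝ) ≤ (R : ℝ) / Nat.card K := by
        rw [one_le_div (Nat.cast_pos.2 Nat.card_pos)]
        exact_mod_cast hR
      have := nsq_nonneg (proj (lcoset K x₀) u)
      have h9 : 0 ≤ cR * nsq (proj (lcoset K x₀) u) := mul_nonneg hcpos.le this
      nlinarith [mul_nonneg (mul_nonneg (sub_nonneg.2 hr) (zero_le_one.trans hr)) h9]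
    · have h0 : proj (lcoset M x) u = 0 := by
        refine ext_coeff fun y => ?_
        by_cases hy : y ∈ lcoset M x
        · rw [coeff_proj_of_mem hy, hus y (by_contra fun h => hex ⟨y, h, hy⟩)]
          simp
        · rw [coeff_proj_of_notMem hy]
          simp
      rw [proj_mul x u hMs, h0, zero_mul]
      simp [nsq]
  have hsum : ∑ x : G, (nsq (proj (lcoset M x) (u * a)) - cR * nsq (proj (lcoset M x) u)) = 0 := by
    rw [Finset.sum_sub_distrib, ← Finset.mul_sum, sum_nsq_proj, sum_nsq_proj, hn1]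
    ring
  have hz := (Finset.sum_eq_zero_iff_of_nonneg fun x _ => hge x).1 hsum g (Finset.mem_univ g)
  obtain ⟨R, hR, e1, e2, himp⟩ := hcos g hg
  rw [e1, e2] at hz
  have hN : 0 < nsq (proj (lcoset K g) u) := by
    refine lt_of_le_of_ne (nsq_nonneg _) fun h => hne ?_
    have := nsq_eq_zero h.symm
    have h2 := congrArg (fun v : MonoidAlgebra ℂ G => v.coeff g) this
    simpa [coeff_proj_of_mem (show g ∈ lcoset K g by simp [mem_lcoset])] using h2
  have hr : ((R : ℝ) / Nat.card K) * ((R : ℝ) / Nat.card K - 1) *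
      (cR * nsq (proj (lcoset K g) u)) = 0 := by linarith [hz]
  have hR' : R = Nat.card K := by
    have hK0 : (0 : ℝ) < Nat.card K := Nat.cast_pos.2 Nat.card_pos
    have hR0 : (0 : ℝ) < (R : ℝ) / Nat.card K :=
      div_pos (Nat.cast_pos.2 (lt_of_lt_of_le Nat.card_pos hR)) hK0
    rcases mul_eq_zero.1 hr with h | h
    · rcases mul_eq_zero.1 h with h | h
      · exact absurd h hR0.ne'
      · rw [sub_eq_zero, div_eq_one_iff_eq hK0.ne'] at h
        exact_mod_cast h
    · exact absurd h (mul_pos hcpos hN).ne'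
  have := himp hR' (w * g * w⁻¹)
    (by rw [show orderOf (w * g * w⁻¹) = orderOf g from
      orderOf_injective (MulAut.conj w).toMonoidHom (MulAut.conj w).injective g]; exact hg)
    (by
      rw [mem_lcoset]
      have h2 := hMn.conj_mem _ hw g⁻¹
      simpa [mul_assoc] using M.mul_mem h2 (M.inv_mem hw))
  exact this

end Cfsg.Agent.H41.DegWeighted
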