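import Cfsg.Agent.H40.SecondMain
import Cfsg.Agent.H41.Blocks

/-!
# Adjoint, coset projections and square norms in the complex group algebra
-/

set_option autoImplicit false
set_option linter.unusedSectionVars false

open scoped ComplexConjugate

namespace Cfsg.Agent.H41.GRing

open MonoidAlgebra
open Cfsg.Agent.H40 (ofFun coeff_ofFun ext_coeff coeff_mul_eq_sum eq_sum_single)

universe u

variable {G : Type u} [Group G] [Fintype G]

/-- The adjoint. -/
noncomputable def adj (x : MonoidAlgebra ℂ G) : MonoidAlgebra ℂ G :=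
  ofFun fun g => conj (x.coeff g⁻¹)

@[simp] theorem coeff_adj (x : MonoidAlgebra ℂ G) (g : G) :
    (adj x).coeff g = conj (x.coeff g⁻¹) := coeff_ofFun _ g

theorem adj_adj (x : MonoidAlgebra ℂ G) : adj (adj x) = x := ext_coeff fun g => by simp

theorem adj_mul (x y : MonoidAlgebra ℂ G) : adj (x * y) = adj y * adj x := by
  refine ext_coeff fun g => ?_
  rw [coeff_adj, coeff_mul_eq_sum, coeff_mul_eq_sum, map_sum]
  refine Fintype.sum_equiv ((Equiv.mulLeft g)) _ _ fun s => ?_
  simp only [Equiv.coe_mulLeft, coeff_adj, map_mul]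
  rw [mul_comm]
  congr 2 <;> group

theorem adj_single (g : G) : adj (MonoidAlgebra.single g (1 : ℂ)) = MonoidAlgebra.single g⁻¹ 1 := by
  classical
  refine ext_coeff fun x => ?_
  by_cases h : g = x⁻¹
  · simp [h]
  · rw [coeff_adj]
    simp only [MonoidAlgebra.coeff_single, Finsupp.single_apply, if_neg h, map_zero]
    rw [if_neg fun h' => h (by rw [← h', inv_inv])]

/-- The trace form. -/
theorem coeff_mul_adj_one (x y : MonoidAlgebra ℂ G) :
    (x * adj y).coeff 1 = ∑ g : G, x.coeff g * conj (y.coeff g) := by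
  rw [coeff_mul_eq_sum]
  simp

/-- The trace is symmetric. -/
theorem coeff_mul_one_comm (x y : MonoidAlgebra ℂ G) : (x * y).coeff 1 = (y * x).coeff 1 := by
  rw [coeff_mul_eq_sum, coeff_mul_eq_sum]
  exact Fintype.sum_equiv (Equiv.inv G) _ _ fun s => by simp [mul_comm]

/-- The square norm. -/
noncomputable def nsq (x : MonoidAlgebra ℂ G) : ℝ := ∑ g : G, Complex.normSq (x.coeff g)

theorem coeff_mul_adj_self (x : MonoidAlgebra ℂ G) : (x * adj x).coeff 1 = (nsq x : ℂ) := by
  rw [coeff_mul_adj_one, nsq, Complex.ofReal_sum]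
  exact Finset.sum_congr rfl fun g _ => Complex.mul_conj _

theorem nsq_nonneg (x : MonoidAlgebra ℂ G) : 0 ≤ nsq x :=
  Finset.sum_nonneg fun _ _ => Complex.normSq_nonneg _

theorem nsq_eq_zero {x : MonoidAlgebra ℂ G} (h : nsq x = 0) : x = 0 := by
  refine ext_coeff fun g => ?_
  have := (Finset.sum_eq_zero_iff_of_nonneg fun _ _ => Complex.normSq_nonneg _).1 h g
    (Finset.mem_univ g)
  simpa using Complex.normSq_eq_zero.1 this

/-- All coefficients outside `S` vanish. -/
def Supp (S : Set G) (x : MonoidAlgebra ℂ G) : Prop := ∀ g, g ∉ S → x.coeff g = 0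

theorem supp_mul {A B C : Set G} (h : ∀ a ∈ A, ∀ b ∈ B, a * b ∈ C) {x y : MonoidAlgebra ℂ G}
    (hx : Supp A x) (hy : Supp B y) : Supp C (x * y) := by
  intro c hc
  rw [coeff_mul_eq_sum]
  refine Finset.sum_eq_zero fun s _ => ?_
  by_cases hs : s ∈ A
  · rw [hy (s⁻¹ * c) fun hb => hc (by simpa using h s hs _ hb), mul_zero]
  · rw [hx s hs, zero_mul]

theorem supp_adj {S : Set G} {x : MonoidAlgebra ℂ G} (hx : Supp S x) :
    Supp {g | g⁻¹ ∈ S} (adj x) := by
  intro g hg
  rw [coeff_adj, hx _ hg, map_zero]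

/-- The left coset of `g`. -/
def lcoset (H : Subgroup G) (g : G) : Set G := {x | g⁻¹ * x ∈ H}

theorem mem_lcoset {H : Subgroup G} {g x : G} : x ∈ lcoset H g ↔ g⁻¹ * x ∈ H := Iff.rfl

theorem lcoset_eq_of_mem {H : Subgroup G} {g x : G} (h : x ∈ lcoset H g) :
    lcoset H x = lcoset H g := by
  ext y
  rw [mem_lcoset, mem_lcoset]
  constructor <;> intro hy
  · simpa [mul_assoc] using H.mul_mem h hy
  · simpa [mul_assoc] using H.mul_mem (H.inv_mem h) hy

open scoped Classical in
/-- The projection onto the coordinates in `S`. -/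
noncomputable def proj (S : Set G) (x : MonoidAlgebra ℂ G) : MonoidAlgebra ℂ G :=
  ofFun fun g => if g ∈ S then x.coeff g else 0

theorem coeff_proj_of_mem {S : Set G} {g : G} (h : g ∈ S) (x : MonoidAlgebra ℂ G) :
    (proj S x).coeff g = x.coeff g := by
  classical
  rw [proj, coeff_ofFun, if_pos h]

theorem coeff_proj_of_notMem {S : Set G} {g : G} (h : g ∉ S) (x : MonoidAlgebra ℂ G) :
    (proj S x).coeff g = 0 := by
  classical
  rw [proj, coeff_ofFun, if_neg h]

theorem supp_proj (S : Set G) (x : MonoidAlgebra ℂ G) : Supp S (proj S x) :=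
  fun _ h => coeff_proj_of_notMem h x

theorem proj_eq_self {S : Set G} {x : MonoidAlgebra ℂ G} (h : Supp S x) : proj S x = x := by
  refine ext_coeff fun g => ?_
  by_cases hg : g ∈ S
  · exact coeff_proj_of_mem hg x
  · rw [coeff_proj_of_notMem hg, h g hg]

/-- A coset projection commutes with right multiplication from the subgroup. -/
theorem proj_mul {H : Subgroup G} (g : G) (x : MonoidAlgebra ℂ G) {b : MonoidAlgebra ℂ G}
    (hb : Supp (H : Set G) b) : proj (lcoset H g) (x * b) = proj (lcoset H g) x * b := by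
  refine ext_coeff fun c => ?_
  rw [coeff_mul_eq_sum]
  by_cases hc : c ∈ lcoset H g
  · rw [coeff_proj_of_mem hc, coeff_mul_eq_sum]
    refine Finset.sum_congr rfl fun s _ => ?_
    by_cases hs : s⁻¹ * c ∈ H
    · rw [coeff_proj_of_mem]
      have := H.mul_mem hc (H.inv_mem hs)
      rw [mem_lcoset]
      simpa [mul_assoc] using this
    · rw [hb _ hs, mul_zero, mul_zero]
  · rw [coeff_proj_of_notMem hc]
    refine (Finset.sum_eq_zero fun s _ => ?_).symm
    by_cases hs : s ∈ lcoset H g
    · rw [hb (s⁻¹ * c) fun h => hc (mem_lcoset.2 (by simpa [mul_assoc] using H.mul_mem hs h)), mul_zero]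
    · rw [coeff_proj_of_notMem hs, zero_mul]

/-- A coset projection of a normal subgroup commutes with left multiplication from it. -/
theorem mul_proj {H : Subgroup G} [H.Normal] (g : G) (x : MonoidAlgebra ℂ G)
    {b : MonoidAlgebra ℂ G} (hb : Supp (H : Set G) b) :
    proj (lcoset H g) (b * x) = b * proj (lcoset H g) x := by
  refine ext_coeff fun c => ?_
  rw [coeff_mul_eq_sum]
  by_cases hc : c ∈ lcoset H g
  · rw [coeff_proj_of_mem hc, coeff_mul_eq_sum]
    refine Finset.sum_congr rfl fun s _ => ?_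
    by_cases hs : s ∈ H
    · rw [coeff_proj_of_mem]
      rw [mem_lcoset]
      have h1 : g⁻¹ * s⁻¹ * g ∈ H := by
        simpa using Subgroup.Normal.conj_mem ‹_› _ (H.inv_mem hs) g⁻¹
      simpa [mul_assoc] using H.mul_mem h1 hc
    · rw [hb _ hs, zero_mul, zero_mul]
  · rw [coeff_proj_of_notMem hc]
    refine (Finset.sum_eq_zero fun s _ => ?_).symm
    by_cases hs : s ∈ H
    · by_cases ht : s⁻¹ * c ∈ lcoset H g
      · refine absurd ?_ hc
        rw [mem_lcoset] at ht ⊢
        have h1 : g⁻¹ * s * g ∈ H := by simpa using Subgroup.Normal.conj_mem ‹_› _ hs g⁻¹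
        simpa [mul_assoc] using H.mul_mem h1 ht
      · rw [coeff_proj_of_notMem ht, mul_zero]
    · rw [hb _ hs, zero_mul]

/-- Commuting with the group algebra of a subgroup. -/
def CommK (H : Subgroup G) (x : MonoidAlgebra ℂ G) : Prop :=
  ∀ k ∈ H, MonoidAlgebra.single k (1 : ℂ) * x = x * MonoidAlgebra.single k 1

theorem supp_single {H : Subgroup G} {k : G} (hk : k ∈ H) (c : ℂ) :
    Supp (H : Set G) (MonoidAlgebra.single k c) := by
  classical
  intro g hg
  simp only [MonoidAlgebra.coeff_single, Finsupp.single_apply]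
  rw [if_neg]
  rintro rfl
  exact hg hk

theorem CommK.commute {H : Subgroup G} {x : MonoidAlgebra ℂ G} (hx : CommK H x)
    {b : MonoidAlgebra ℂ G} (hb : Supp (H : Set G) b) : b * x = x * b := by
  rw [eq_sum_single b, Finset.sum_mul, Finset.mul_sum]
  refine Finset.sum_congr rfl fun k _ => ?_
  by_cases hk : k ∈ H
  · rw [show MonoidAlgebra.single k (b.coeff k) = b.coeff k • MonoidAlgebra.single k (1 : ℂ) by
      rw [MonoidAlgebra.smul_single', mul_one]]
    rw [smul_mul_assoc, mul_smul_comm, hx k hk]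
  · rw [hb k hk, MonoidAlgebra.single_zero, zero_mul, mul_zero]

theorem CommK.proj {H : Subgroup G} [H.Normal] {x : MonoidAlgebra ℂ G} (hx : CommK H x) (g : G) :
    CommK H (GRing.proj (lcoset H g) x) := fun k hk => by
  rw [← mul_proj g x (supp_single hk 1), ← proj_mul g x (supp_single hk 1), hx k hk]

theorem CommK.adj {H : Subgroup G} {x : MonoidAlgebra ℂ G} (hx : CommK H x) :
    CommK H (GRing.adj x) := fun k hk => by
  have h := congrArg GRing.adj (hx k⁻¹ (H.inv_mem hk))
  rw [adj_mul, adj_mul, adj_single, inv_inv] at h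
  exact h.symm

theorem commK_of_commute {H : Subgroup G} {x : MonoidAlgebra ℂ G}
    (hx : ∀ y : MonoidAlgebra ℂ G, Commute x y) : CommK H x :=
  fun _ _ => (hx _).symm.eq

/-- The conjugate of an element, coefficientwise. -/
theorem coeff_conj (w : G) (x : MonoidAlgebra ℂ G) (g : G) :
    (MonoidAlgebra.single w (1 : ℂ) * x * MonoidAlgebra.single w⁻¹ 1).coeff g =
      x.coeff (w⁻¹ * g * w) := by
  rw [MonoidAlgebra.coeff_mul_single_apply, mul_one, MonoidAlgebra.coeff_single_mul_apply, one_mul,
    inv_inv, mul_assoc]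

/-- A class function gives a central element. -/
theorem commute_of_class {x : MonoidAlgebra ℂ G}
    (h : ∀ g k : G, x.coeff (k * g * k⁻¹) = x.coeff g) (y : MonoidAlgebra ℂ G) : Commute x y :=
  ((Subalgebra.mem_center_iff.1 (H40.mem_center_iff_coeff.2 h)) y).symm

/-- Square norms are additive over cosets. -/
theorem sum_nsq_proj (H : Subgroup G) [Fintype H] (x : MonoidAlgebra ℂ G) :
    ∑ g : G, nsq (proj (lcoset H g) x) = Fintype.card H * nsq x := by
  classical
  have h1 : ∀ g, nsq (proj (lcoset H g) x) = ∑ m : H, Complex.normSq (x.coeff (g * m)) := by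
    intro g
    rw [nsq]
    have e : ∀ s : G, Complex.normSq ((proj (lcoset H g) x).coeff s) =
        if g⁻¹ * s ∈ H then Complex.normSq (x.coeff s) else 0 := by
      intro s
      split_ifs with hs
      · rw [coeff_proj_of_mem (mem_lcoset.2 hs)]
      · rw [coeff_proj_of_notMem (mem_lcoset.not.2 hs), map_zero]
    rw [Finset.sum_congr rfl fun s _ => e s]
    rw [← Fintype.sum_equiv (Equiv.mulLeft g)
      (fun m : G => if m ∈ H then Complex.normSq (x.coeff (g * m)) else 0) _ (fun m => by simp)]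
    rw [← Finset.sum_filter]
    exact Finset.sum_subtype _ (fun m => by simp) _
  simp only [h1]
  rw [Finset.sum_comm]
  have h2 : ∀ m : H, ∑ g : G, Complex.normSq (x.coeff (g * m)) = nsq x := fun m =>
    Fintype.sum_equiv (Equiv.mulRight (m : G)) _ _ fun _ => rfl
  rw [Finset.sum_congr rfl fun m _ => h2 m, Finset.sum_const, nsmul_eq_mul, Finset.card_univ]

end Cfsg.Agent.H41.GRing
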