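import Cfsg.Agent.H41.RelDiameterTwist
import Cfsg.Agent.H27.DegreeTools

/-!
# Diameters in the common-divisor graph on a relative degree set

For a solvable normal subgroup inside the derived subgroup, connected degrees are at distance at
most four, and at most two when the graph is disconnected. The induction passes to the kernel of
a top chief factor.
-/

set_option autoImplicit false

open scoped commutatorElement

namespace Cfsg.Agent.H41.RelDiam

open Cfsg.Agent.H44.RelGraph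

variable {G : Type*} [Group G] [Finite G] {N : Subgroup G}

/-- At most one common neighbour apart. -/
def W2 (N : Subgroup G) (a b : ℕ) : Prop :=
  ∃ c ∈ Cfsg.relCharDegrees N, Near a c ∧ Near c b

/-- At most four steps apart. -/
def W4 (N : Subgroup G) (a b : ℕ) : Prop :=
  ∃ c ∈ Cfsg.relCharDegrees N, W2 N a c ∧ W2 N c b

theorem W2.symm {a b : ℕ} (h : W2 N a b) : W2 N b a :=
  let ⟨c, hc, h1, h2⟩ := h
  ⟨c, hc, h2.symm, h1.symm⟩

theorem W4.symm {a b : ℕ} (h : W4 N a b) : W4 N b a :=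
  let ⟨c, hc, h1, h2⟩ := h
  ⟨c, hc, h2.symm, h1.symm⟩

theorem w2_refl {a : ℕ} (ha : a ∈ Cfsg.relCharDegrees N) : W2 N a a :=
  ⟨a, ha, Or.inl rfl, Or.inl rfl⟩

theorem w2_of_near {a b : ℕ} (hb : b ∈ Cfsg.relCharDegrees N) (h : Near a b) : W2 N a b :=
  ⟨b, hb, h, Or.inl rfl⟩

theorem W2.w4 {a b : ℕ} (h : W2 N a b) (hb : b ∈ Cfsg.relCharDegrees N) : W4 N a b :=
  ⟨b, hb, h, w2_refl hb⟩

variable [N.Normal]

theorem Near.conn {a b : ℕ} (h : Near a b) (ha : a ∈ Cfsg.relCharDegrees N)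
    (hb : b ∈ Cfsg.relCharDegrees N) (hNG : N ≤ commutator G) : Conn N a b := by
  rcases h with rfl | h
  · exact conn_refl ha
  · obtain ⟨l, hl, hla, hlb⟩ := exists_prime_of_not_coprime h
    exact conn_of_dvd ha hb hl.ne_one hla hlb (Nat.zero_lt_of_lt (one_lt_of_mem N hNG ha))

theorem cd_mono {K : Subgroup G} (h : K ≤ N) {a : ℕ} (ha : a ∈ Cfsg.relCharDegrees K) :
    a ∈ Cfsg.relCharDegrees N :=
  let ⟨χ, ⟨x, hx, hne⟩, hd⟩ := ha
  ⟨χ, ⟨x, h hx, hne⟩, hd⟩

theorem W2.mono {K : Subgroup G} (h : K ≤ N) {a b : ℕ} (hw : W2 K a b) : W2 N a b :=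
  let ⟨c, hc, h1, h2⟩ := hw
  ⟨c, cd_mono h hc, h1, h2⟩

theorem W4.mono {K : Subgroup G} (h : K ≤ N) {a b : ℕ} (hw : W4 K a b) : W4 N a b :=
  let ⟨c, hc, h1, h2⟩ := hw
  ⟨c, cd_mono h hc, h1.mono h, h2.mono h⟩

theorem conn_mono {K : Subgroup G} [K.Normal] (h : K ≤ N) {a b : ℕ} (hc : Conn K a b) :
    Conn N a b := by
  obtain ⟨ha, hb, hr⟩ := hc
  refine ⟨cd_mono h ha, cd_mono h hb, ?_⟩
  exact hr.map
    (⟨fun x => ⟨x.1, cd_mono h x.2⟩, fun {_ _} e => e⟩ :
      Cfsg.commonDivisorGraph.induce (Cfsg.relCharDegrees K) →g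
        Cfsg.commonDivisorGraph.induce (Cfsg.relCharDegrees N))

/-- A path leaving a set of degrees has a crossing edge. -/
theorem exists_crossing {P : ℕ → Prop} {a b : ℕ} (hc : Conn N a b) (ha : P a) (hb : ¬ P b) :
    ∃ x ∈ Cfsg.relCharDegrees N, ∃ y ∈ Cfsg.relCharDegrees N,
      P x ∧ ¬ P y ∧ ¬ Nat.Coprime x y := by
  obtain ⟨h1, h2, ⟨w⟩⟩ := hc
  have key : ∀ {u v : Cfsg.relCharDegrees N}
      (w : (Cfsg.commonDivisorGraph.induce (Cfsg.relCharDegrees N)).Walk u v),
      P u.1 → ¬ P v.1 → ∃ x ∈ Cfsg.relCharDegrees N, ∃ y ∈ Cfsg.relCharDegrees N,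
        P x ∧ ¬ P y ∧ ¬ Nat.Coprime x y := by
    intro u v w
    induction w with
    | nil => exact fun h h' => absurd h h'
    | @cons u z v hadj _ ih =>
      intro hu hv
      by_cases hz : P z.1
      · exact ih hz hv
      · refine ⟨u.1, u.2, z.1, z.2, hu, hz, fun h => ?_⟩
        have : 1 < Nat.gcd u.1 z.1 := hadj.2
        rw [h] at this
        exact lt_irrefl 1 this
  exact key w ha hb

variable [Fintype N]

theorem exists_deg_over {f : N →* ℂˣ} (hf : f ≠ 1) :
    ∃ d ∈ Cfsg.relCharDegrees N, (stab N f).index ∣ d := by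
  obtain ⟨χ, hχ⟩ := exists_over N (linI N f)
  exact ⟨_, over_degree_mem N hχ (linI_ne_one hf), stab_index_dvd N hχ⟩

/-- A degree that is not a relative degree of `K` lies over a linear character trivial on `K`. -/
theorem exists_over_annih {K : Subgroup G} [K.Normal] (hK : ⁅N, N⁆ ≤ K) {a : ℕ}
    (ha : a ∈ Cfsg.relCharDegrees N) (hna : a ∉ Cfsg.relCharDegrees K) :
    ∃ f ∈ annih N K, f ≠ 1 ∧ (stab N f).index ∣ a := by
  classical
  obtain ⟨ψ, hker, rfl⟩ := ha
  obtain ⟨θ, hθ⟩ := exists_constituent (N := N) ψ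
  have hθ1 := constituent_ne_one hθ hker
  have hK1 : ∀ n : N, (n : G) ∈ K → θ.1 n = θ.1 1 := by
    by_contra h
    push Not at h
    exact hna ⟨ψ, exists_ne_of_over hθ h, rfl⟩
  have hlin : Cfsg.charDegree (θ : N → ℂ) = 1 :=
    H27.Deg.charDegree_eq_one_of_commutator_le fun n hn => H43.mem_charKer.2 (hK1 n (hK (by
      rw [commutator_eq_subgroupOf] at hn
      exact Subgroup.mem_subgroupOf.1 hn)))
  obtain ⟨f, rfl⟩ := exists_linI hlin
  refine ⟨f, fun n hn => ?_, fun h => hθ1 (by rw [h, linI_one]), stab_index_dvd N hθ⟩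
  have := hK1 n hn
  rw [linI_apply, linI_apply, Units.val_inj, map_one] at this
  exact this

/-- An invariant linear character: every degree is next to one divisible by a fixed prime. -/
theorem exists_near_dvd (hNG : N ≤ commutator G) {f₀ : N →* ℂˣ} (hf₀ : stab N f₀ = ⊤)
    (hne : f₀ ≠ 1) : ∃ r : ℕ, r.Prime ∧ ∀ d ∈ Cfsg.relCharDegrees N,
      ∃ d' ∈ Cfsg.relCharDegrees N, r ∣ d' ∧ Near d d' := by
  classical
  have hpos : 0 < orderOf f₀ := (H38.isOfFinOrder_hom f₀).orderOf_pos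
  have hne1 : orderOf f₀ ≠ 1 := fun h => hne (orderOf_eq_one_iff.mp h)
  obtain ⟨r, hr, hrd⟩ := Nat.exists_prime_and_dvd hne1
  set f := f₀ ^ (orderOf f₀ / r) with hfdef
  have hfo : orderOf f = r := by
    rw [hfdef, orderOf_pow_of_dvd (Nat.div_pos (Nat.le_of_dvd hpos hrd) hr.pos).ne'
      (Nat.div_dvd_of_dvd hrd), Nat.div_div_self hrd hpos.ne']
  have hfs : stab N f = ⊤ := top_le_iff.mp (hf₀ ▸ stab_le_pow N f₀ _)
  refine ⟨r, hr, fun d hd => ?_⟩
  obtain ⟨ψ, hker, rfl⟩ := id hd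
  by_cases hrψ : r ∣ Cfsg.charDegree (ψ : G → ℂ)
  · exact ⟨_, hd, hrψ, Or.inl rfl⟩
  obtain ⟨θ, hθ⟩ := exists_constituent (N := N) ψ
  have hθ1 := constituent_ne_one hθ hker
  obtain ⟨e, he, -, hde⟩ := exists_over_degree hθ
  set k := (H44.inertia N θ.1).index * Cfsg.charDegree (θ : N → ℂ) with hk
  by_cases hk1 : k = 1
  · obtain ⟨hI, hdeg⟩ := mul_eq_one.mp hk1
    obtain ⟨ν, rfl⟩ := exists_linI hdeg
    have hνs : stab N ν = ⊤ := Subgroup.index_eq_one.mp hI
    have hνd := orderOf_dvd_degree hNG hνs hθ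
    have hν1 : orderOf ν ≠ 1 := fun h => hθ1 (by rw [orderOf_eq_one_iff.mp h, linI_one])
    have hcop : Nat.Coprime (orderOf ν) (orderOf f) := by
      rw [hfo]
      exact (hr.coprime_iff_not_dvd.mpr fun h => hrψ (h.trans hνd)).symm
    have ho : orderOf (ν * f) = orderOf ν * r := by
      rw [(Commute.all ν f).orderOf_mul_eq_mul_orderOf_of_coprime hcop, hfo]
    have hνfs : stab N (ν * f) = ⊤ := top_le_iff.mp
      ((le_inf hνs.ge hfs.ge).trans (stab_inf_le_mul N ν f))
    have hνf1 : ν * f ≠ 1 := fun h => by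
      rw [h, orderOf_one] at ho
      exact hν1 (mul_eq_one.mp ho.symm).1
    obtain ⟨χ, hχ⟩ := exists_over N (linI N (ν * f))
    have hχd := orderOf_dvd_degree hNG hνfs hχ
    rw [ho] at hχd
    exact ⟨_, over_degree_mem N hχ (linI_ne_one hνf1), (Dvd.intro_left _ rfl).trans hχd,
      near_of_dvd hν1 hνd ((Dvd.intro _ rfl).trans hχd)⟩
  · have hI : H44.inertia N (H43.irrTwist θ f).1 = H44.inertia N θ.1 := by
      apply le_antisymm
      · exact (le_inf (hfs ▸ le_top) le_rfl).trans (inertia_inf_stab_le' θ f)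
      · exact (le_inf (hfs ▸ le_top) le_rfl).trans (inertia_inf_stab_le θ f)
    obtain ⟨χ, hχ⟩ := exists_over N (H43.irrTwist θ f)
    have hθ'1 : H43.irrTwist θ f ≠ H26.oneIrr N := by
      intro h
      apply hk1
      have h1 : Cfsg.charDegree (θ : N → ℂ) = 1 := by
        rw [← H43.charDegree_irrTwist θ f, h, H44.charDegree_oneIrr]
      have h2 : H44.inertia N θ.1 = ⊤ := by
        rw [← hI, h, eq_top_iff]
        intro g _
        rw [H44.mem_inertia]
        rfl
      rw [hk, h1, h2, Subgroup.index_top]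
    obtain ⟨e', he', -, hde'⟩ := exists_over_degree hχ
    rw [hI, H43.charDegree_irrTwist] at hde'
    have hS : ∀ n : N, ∑ φ ∈ (orbitSet_finite (H43.irrTwist θ f).1).toFinset, φ n =
        (∑ φ ∈ (orbitSet_finite θ.1).toFinset, φ n) * (f n : ℂ) := by
      intro n
      have hmap : (orbitSet_finite (H43.irrTwist θ f).1).toFinset =
          ((orbitSet_finite θ.1).toFinset).image (fun φ : N → ℂ => fun m => φ m * (f m : ℂ)) := by
        ext φ
        simp only [Set.Finite.mem_toFinset, Finset.mem_image]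
        have hg : ∀ g, H56.twist N (H43.irrTwist θ f).1 g =
            fun m => H56.twist N θ.1 g m * (f m : ℂ) := fun g => by
          rw [twist_irrTwist, (mem_stab_iff_conjHom N).mp (hfs ▸ Subgroup.mem_top g :
            g ∈ stab N f)]
        constructor
        · rintro ⟨g, rfl⟩
          exact ⟨_, ⟨g, rfl⟩, (hg g).symm⟩
        · rintro ⟨_, ⟨g, rfl⟩, rfl⟩
          exact ⟨g, (hg g).symm⟩
      rw [hmap, Finset.sum_image ?_, Finset.sum_mul]
      intro φ _ φ' _ h
      exact funext fun m => mul_right_cancel₀ (Units.ne_zero (f m)) (congrFun h m)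
    have key := pow_eq_one_of_smul_eq N hNG (H26.irr_isCharacter χ) (H26.irr_isCharacter ψ) f e e'
      (fun n => by rw [restrict_eq hχ n, restrict_eq hθ n, he, he', hS n]; ring)
    have h1 : orderOf f ∣ Cfsg.charDegree (ψ : G → ℂ) * e' :=
      orderOf_dvd_of_pow_eq_one (x := f) key
    rw [hfo] at h1
    have h2 : r ∣ e' := (hr.dvd_mul.mp h1).resolve_left hrψ
    exact ⟨_, over_degree_mem N hχ hθ'1, h2.trans (Dvd.intro _ hde'.symm),
      near_of_dvd hk1 (Dvd.intro_left _ hde.symm) (Dvd.intro_left _ hde'.symm)⟩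

/-- Two orbit sizes on the chief factor have a common neighbour. -/
theorem lin_w2 (hno : NoInvariant N) {r : ℕ} (hr : r.Prime) {K : Subgroup G} [K.Normal]
    (hexp : ∀ n ∈ N, n ^ r ∈ K) {f g : N →* ℂˣ} (hf : f ∈ annih N K) (hg : g ∈ annih N K)
    (hf1 : f ≠ 1) (hg1 : g ≠ 1) (hrf : ¬ r ∣ (stab N f).index) (hrg : ¬ r ∣ (stab N g).index)
    {a b : ℕ} (ha : (stab N f).index ∣ a) (hb : (stab N g).index ∣ b)
    (hbN : b ∈ Cfsg.relCharDegrees N) : W2 N a b := by
  by_cases hab : Nat.Coprime (stab N f).index (stab N g).index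
  swap
  · obtain ⟨l, hl, h1, h2⟩ := exists_prime_of_not_coprime hab
    exact w2_of_near hbN (near_of_dvd hl.ne_one (h1.trans ha) (h2.trans hb))
  have hne := mul_ne_one_of_coprime hno hf1 hab
  obtain ⟨d, hd, hdd⟩ := exists_deg_over hne
  have h1 := not_coprime_mul hno hr (pow_eq_one_of_mem_annih hexp hf) hf1 hrg hab
  have h2 := not_coprime_mul hno hr (pow_eq_one_of_mem_annih hexp hg) hg1 hrf hab.symm
  rw [show g * f = f * g from mul_comm g f] at h2
  obtain ⟨l, hl, hl1, hl2⟩ := exists_prime_of_not_coprime h1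
  obtain ⟨m, hm, hm1, hm2⟩ := exists_prime_of_not_coprime h2
  exact ⟨d, hd, near_of_dvd hl.ne_one (hl1.trans ha) (hl2.trans hdd),
    near_of_dvd hm.ne_one (hm2.trans hdd) (hm1.trans hb)⟩

/-- Every orbit size prime to `r` is two steps from a fixed orbit size divisible by `r`. -/
theorem sing_w2 (hno : NoInvariant N) {r : ℕ} (hr : r.Prime) {K : Subgroup G} [K.Normal]
    (hKN : K ≤ N) (hexp : ∀ n ∈ N, n ^ r ∈ K)
    (hmax : ∀ L : Subgroup G, L.Normal → K ≤ L → L ≤ N → L = K ∨ L = N)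
    {f g : N →* ℂˣ} (hf : f ∈ annih N K) (hg : g ∈ annih N K)
    (hf1 : f ≠ 1) (hg1 : g ≠ 1) (hrg : ¬ r ∣ (stab N g).index)
    {a b : ℕ} (ha : (stab N f).index ∣ a) (hb : (stab N g).index ∣ b)
    (hbN : b ∈ Cfsg.relCharDegrees N) : W2 N a b := by
  classical
  by_contra hw
  let X : Set (N →* ℂˣ) := {z | z ∈ annih N K ∧ z ≠ 1 ∧ (stab N z).index = (stab N f).index}
  have hstep : ∀ z ∈ X, ∀ x : G, z * conjHom N x g ∈ X := by
    rintro z ⟨hzV, hz1, hzs⟩ x
    have hab : Nat.Coprime (stab N z).index (stab N (conjHom N x g)).index := by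
      by_contra h
      obtain ⟨l, hl, h1, h2⟩ := exists_prime_of_not_coprime h
      rw [hzs] at h1
      rw [index_stab_conjHom] at h2
      exact hw (w2_of_near hbN (near_of_dvd hl.ne_one (h1.trans ha) (h2.trans hb)))
    have hne := mul_ne_one_of_coprime hno hz1 hab
    have h1 := not_coprime_mul hno hr (pow_eq_one_of_mem_annih hexp hzV) hz1
      (by rw [index_stab_conjHom]; exact hrg) hab
    have hcb : Nat.Coprime (stab N (conjHom N x g)).index (stab N (z * conjHom N x g)).index := by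
      by_contra h
      obtain ⟨l, hl, hl1, hl2⟩ := exists_prime_of_not_coprime h1
      obtain ⟨m, hm, hm1, hm2⟩ := exists_prime_of_not_coprime h
      obtain ⟨d, hd, hdd⟩ := exists_deg_over hne
      rw [hzs] at hl1
      rw [index_stab_conjHom] at hm1
      exact hw ⟨d, hd, near_of_dvd hl.ne_one (hl1.trans ha) (hl2.trans hdd),
        near_of_dvd hm.ne_one (hm2.trans hdd) (hm1.trans hb)⟩
    refine ⟨(annih N K).mul_mem hzV (conjHom_mem_annih x hg), hne, ?_⟩
    rw [← hzs]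
    exact index_eq_of_coprime hab.symm hcb
      (by rw [inf_comm]; exact stab_inf_le_mul N z _) (stab_inf_le_mul'' z _)
  set H := Subgroup.closure (Set.range fun x : G => conjHom N x g) with hH
  have hHV : H ≤ annih N K := (Subgroup.closure_le _).mpr fun y hy => by
    obtain ⟨x, rfl⟩ := hy
    exact conjHom_mem_annih x hg
  let W : Subgroup (N →* ℂˣ) :=
    { carrier := {w | ∀ z ∈ X, z * w ∈ X}
      one_mem' := fun z hz => by
        convert hz using 1
        exact MonoidHom.ext fun n => by simp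
      mul_mem' := fun {a b} ha hb z hz => by
        convert hb _ (ha z hz) using 1
        exact MonoidHom.ext fun n => by simp [mul_assoc]
      inv_mem' := fun {a} ha => by
        intro z hz
        have hinj : Function.Injective (fun u : X => (⟨u.1 * a, ha u.1 u.2⟩ : X)) :=
          fun u v huv => Subtype.ext (MonoidHom.ext fun n => mul_right_cancel
            (DFunLike.congr_fun (congrArg Subtype.val huv) n))
        obtain ⟨⟨u, hu⟩, hu'⟩ := Finite.surjective_of_injective hinj ⟨z, hz⟩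
        have h1 : z * a⁻¹ = u := MonoidHom.ext fun n => by
          have h2 : u n * a n = z n := DFunLike.congr_fun (congrArg Subtype.val hu') n
          rw [MonoidHom.mul_apply, MonoidHom.inv_apply, ← h2, mul_inv_cancel_right]
        rw [h1]
        exact hu }
  have hHW : H ≤ W := (Subgroup.closure_le _).mpr fun y hy => by
    obtain ⟨x, rfl⟩ := hy
    exact fun z hz => hstep z hz x
  let L : Subgroup G :=
    { carrier := {a | ∃ h : a ∈ N, ∀ x : G, conjHom N x g ⟨a, h⟩ = 1}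
      one_mem' := ⟨N.one_mem, fun x => map_one _⟩
      mul_mem' := fun {a b} ⟨ha, ha'⟩ ⟨hb, hb'⟩ => ⟨N.mul_mem ha hb, fun x => by
        rw [show (⟨a * b, N.mul_mem ha hb⟩ : N) = ⟨a, ha⟩ * ⟨b, hb⟩ from rfl, map_mul, ha' x,
          hb' x, one_mul]⟩
      inv_mem' := fun {a} ⟨ha, ha'⟩ => ⟨N.inv_mem ha, fun x => by
        rw [show (⟨a⁻¹, N.inv_mem ha⟩ : N) = (⟨a, ha⟩ : N)⁻¹ from rfl, map_inv, ha' x,
          inv_one]⟩ }
  have hLn : L.Normal := ⟨fun a ha x => by
    obtain ⟨ha, ha'⟩ := ha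
    refine ⟨(inferInstance : N.Normal).conj_mem a ha x, fun y => ?_⟩
    have := ha' (y * x)
    rwa [← conjHom_conjHom, conjHom_apply, show MulAut.conjNormal x (⟨a, ha⟩ : N) =
      ⟨x * a * x⁻¹, (inferInstance : N.Normal).conj_mem a ha x⟩ from
        Subtype.ext (MulAut.conjNormal_apply x _)] at this⟩
  have hLK : L = K := by
    refine (hmax L hLn (fun a ha => ⟨hKN ha, fun x => conjHom_mem_annih x hg ⟨a, hKN ha⟩ ha⟩)
      (fun a ha => ha.1)).resolve_right fun h => ?_
    refine hg1 (MonoidHom.ext fun n => ?_)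
    have hn : (n : G) ∈ L := by rw [h]; exact n.2
    obtain ⟨_, h'⟩ := hn
    have := h' 1
    rwa [conjHom_one] at this
  have hHeq : H = annih N K := eq_annih_of_separating K H hHV fun n hn => by
    rw [← hLK]
    exact ⟨n.2, fun x => hn _ (Subgroup.subset_closure ⟨x, rfl⟩)⟩
  obtain ⟨-, h1, -⟩ := hHW (hHeq ▸ (annih N K).inv_mem hf : f⁻¹ ∈ H) f ⟨hf, hf1, rfl⟩
  exact h1 (MonoidHom.ext fun n => by simp)

/-- The induction on the normal subgroup. -/
theorem main : ∀ (c : ℕ) (N : Subgroup G) [N.Normal] [Group.IsSolvable N], Nat.card N ≤ c →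
    N ≤ commutator G → ∀ a b : ℕ, Conn N a b →
      W4 N a b ∧ ((∃ x ∈ Cfsg.relCharDegrees N, ∃ y ∈ Cfsg.relCharDegrees N, ¬ Conn N x y) →
        W2 N a b) := by
  intro c
  induction c with
  | zero =>
    intro N _ _ hc
    exact absurd hc (by have := Nat.card_pos (α := N); omega)
  | succ c IH =>
    intro N _ _ hc hNG a b hab
    classical
    haveI := Fintype.ofFinite N
    obtain ⟨haN, hbN, -⟩ := id hab
    by_cases hno : NoInvariant N
    swap
    · simp only [NoInvariant, not_forall] at hno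
      obtain ⟨f, hf, hf1⟩ := hno
      refine ⟨?_, fun ⟨x, hx, y, hy, h⟩ => absurd (conn_of_invariant hNG hf hf1 hx hy) h⟩
      obtain ⟨r, hr, hall⟩ := exists_near_dvd hNG hf hf1
      obtain ⟨a', ha', hra, hna⟩ := hall a haN
      obtain ⟨b', hb', hrb, hnb⟩ := hall b hbN
      exact ⟨b', hb', ⟨a', ha', hna, near_of_dvd hr.ne_one hra hrb⟩,
        w2_of_near hbN hnb.symm⟩
    have hNne : N ≠ ⊥ := by
      rintro rfl
      obtain ⟨χ, ⟨x, hx, hne⟩, -⟩ := haN
      exact hne (by rw [Subgroup.mem_bot.1 hx])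
    haveI : Nontrivial N := (Subgroup.nontrivial_iff_ne_bot N).2 hNne
    have hlt : ⁅N, N⁆ < N := by
      refine lt_of_le_of_ne (Subgroup.commutator_le_self N) fun h => ?_
      have h2 : commutator N = ⊤ := by
        rw [commutator_eq_subgroupOf, h, Subgroup.subgroupOf_self]
      exact (Group.IsSolvable.commutator_lt_top_of_nontrivial N).ne h2
    have hm1 : ⁅N, N⁆.relIndex N ≠ 1 := fun h => hlt.not_ge (Subgroup.relIndex_eq_one.mp h)
    obtain ⟨r, hr, hrm⟩ := Nat.exists_prime_and_dvd hm1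
    obtain ⟨K, hKn, hK, hKN, hKne, hexp, hmax⟩ := exists_top_factor hr hrm
    haveI := hKn
    haveI : Group.IsSolvable K :=
      solvable_of_solvable_injective (f := Subgroup.inclusion hKN) (Subgroup.inclusion_injective hKN)
    have hcK : Nat.card K ≤ c := by
      have h1 : Nat.card K < Nat.card N := lt_of_le_of_ne
        (Subgroup.card_le_of_le hKN) fun h =>
          hKne (Subgroup.eq_of_le_of_card_ge hKN h.ge)
      omega
    have ihK := IH K hcK (hKN.trans hNG)
    have hcl : ∀ {x : ℕ}, x ∈ Cfsg.relCharDegrees N → ¬ r ∣ x → _ :=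
      fun {x} hx hrx => classify hno hr hK hexp hx hrx
    obtain ⟨f₀, hf₀, hf₀1⟩ := exists_annih_ne_one hK hKN hKne
    have hrdvd : ∀ {x y : ℕ}, r ∣ x → r ∣ y → Near x y := fun hx hy =>
      near_of_dvd hr.ne_one hx hy
    -- the path through `K`
    have chain : ∀ {x y : ℕ}, y ∈ Cfsg.relCharDegrees K → x ∈ Cfsg.relCharDegrees K →
        ∀ dx ∈ Cfsg.relCharDegrees K, ¬ Nat.Coprime x dx →
        ∀ dy ∈ Cfsg.relCharDegrees K, ¬ Nat.Coprime y dy →
        ¬ Nat.Coprime dx dy → Conn K x y := fun hy hx dx hdx h1 dy hdy h2 h3 =>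
      ((Near.conn (Or.inr h1) hx hdx (hKN.trans hNG)).trans
        (Near.conn (Or.inr h3) hdx hdy (hKN.trans hNG))).trans
        (Near.conn (Or.inr h2) hy hdy (hKN.trans hNG)).symm
    refine ⟨?_, ?_⟩
    · -- a central degree
      by_cases hI : ∃ f ∈ annih N K, f ≠ 1 ∧ ∃ D ∈ Cfsg.relCharDegrees N,
          (stab N f).index ∣ D ∧ ∃ e ∈ Cfsg.relCharDegrees N, r ∣ e ∧ Near e D ∧
            (r ∣ (stab N f).index ∨ ∀ g ∈ annih N K, g ≠ 1 → ¬ r ∣ (stab N g).index)
      · obtain ⟨f, hf, hf1, D, hD, hfD, e, he, hre, heD, hcase⟩ := hI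
        have hall : ∀ x ∈ Cfsg.relCharDegrees N, W2 N D x := by
          intro x hx
          by_cases hrx : r ∣ x
          · exact W2.symm ⟨e, he, hrdvd hrx hre, heD⟩
          rcases hcl hx hrx with ⟨ν, hν, hν1, hνx⟩ | ⟨-, hd⟩
          · rcases hcase with hrf | hall'
            · exact sing_w2 hno hr hKN hexp hmax hf hν hf1 hν1
                (fun h => hrx (h.trans hνx)) hfD hνx hx
            · exact lin_w2 hno hr hexp hf hν hf1 hν1 (hall' f hf hf1) (hall' ν hν hν1) hfD hνx hx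
          · obtain ⟨d, hd, hxd, hfd⟩ := hd f hf hf1
            exact W2.symm ⟨d, cd_mono hKN hd, Or.inr hxd,
              near_of_dvd (index_stab_ne_one hno hf1) hfd hfD⟩
        exact ⟨D, hD, (hall a haN).symm, hall b hbN⟩
      have hr' : ∀ g ∈ annih N K, g ≠ 1 → ¬ r ∣ (stab N g).index := by
        intro g hg hg1 hrg
        obtain ⟨D, hD, hgD⟩ := exists_deg_over hg1
        exact hI ⟨g, hg, hg1, D, hD, hgD, D, hD, hrg.trans hgD, Or.inl rfl, Or.inl hrg⟩
      have hsep : ∀ f ∈ annih N K, f ≠ 1 → ∀ D ∈ Cfsg.relCharDegrees N, (stab N f).index ∣ D →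
          ∀ e ∈ Cfsg.relCharDegrees N, r ∣ e → ¬ Near e D := fun f hf hf1 D hD hfD e he hre h =>
        hI ⟨f, hf, hf1, D, hD, hfD, e, he, hre, h, Or.inr hr'⟩
      obtain ⟨D₀, hD₀, hfD₀⟩ := exists_deg_over hf₀1
      have hB : ∀ x ∈ Cfsg.relCharDegrees N, ¬ r ∣ x → W2 N D₀ x := by
        intro x hx hrx
        rcases hcl hx hrx with ⟨ν, hν, hν1, hνx⟩ | ⟨-, hd⟩
        · exact lin_w2 hno hr hexp hf₀ hν hf₀1 hν1 (hr' _ hf₀ hf₀1) (hr' _ hν hν1) hfD₀ hνx hx
        · obtain ⟨d, hd, hxd, hfd⟩ := hd f₀ hf₀ hf₀1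
          exact W2.symm ⟨d, cd_mono hKN hd, Or.inr hxd,
            near_of_dvd (index_stab_ne_one hno hf₀1) hfd hfD₀⟩
      have hmix : ∀ x y : ℕ, Conn N x y → r ∣ x → ¬ r ∣ y → W4 N x y := by
        intro x y hxy hrx hry
        obtain ⟨hxN, hyN, -⟩ := id hxy
        obtain ⟨a₀, ha₀, b₀, hb₀, hra₀, hrb₀, h0⟩ :=
          exists_crossing (P := fun n => r ∣ n) hxy hrx hry
        have hK' : ∀ z ∈ Cfsg.relCharDegrees N, r ∣ z → z ∈ Cfsg.relCharDegrees K := by
          intro z hz hrz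
          by_contra h
          obtain ⟨f, hf, hf1, hfz⟩ := exists_over_annih hK hz h
          exact hsep f hf hf1 z hz hfz z hz hrz (Or.inl rfl)
        rcases hcl hb₀ hrb₀ with ⟨ν, hν, hν1, hνb⟩ | ⟨hb₀K, hd₀⟩
        · exact absurd (Or.inr h0) (hsep ν hν hν1 b₀ hb₀ hνb a₀ ha₀ hra₀)
        rcases hcl hyN hry with ⟨ν, hν, hν1, hνy⟩ | ⟨hyK, hdy⟩
        · obtain ⟨d, hd, hbd, hνd⟩ := hd₀ ν hν hν1
          exact ⟨b₀, hb₀, ⟨a₀, ha₀, hrdvd hrx hra₀, Or.inr h0⟩, d, cd_mono hKN hd, Or.inr hbd,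
            near_of_dvd (index_stab_ne_one hno hν1) hνd hνy⟩
        · obtain ⟨d, hd, hbd, hfd⟩ := hd₀ f₀ hf₀ hf₀1
          obtain ⟨d', hd', hyd', hfd'⟩ := hdy f₀ hf₀ hf₀1
          have h1 := chain hyK hb₀K d hd hbd d' hd' hyd' fun h =>
            index_stab_ne_one hno hf₀1 (Nat.eq_one_of_dvd_coprimes h hfd hfd')
          have h2 : Conn K x b₀ :=
            ((hrdvd hrx hra₀).conn (hK' x hxN hrx) (hK' a₀ ha₀ hra₀) (hKN.trans hNG)).trans
              ((Near.conn (Or.inr h0) (hK' a₀ ha₀ hra₀) hb₀K (hKN.trans hNG)))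
          exact (ihK x y (h2.trans h1)).1.mono hKN
      by_cases hra : r ∣ a <;> by_cases hrb : r ∣ b
      · exact (w2_of_near hbN (hrdvd hra hrb)).w4 hbN
      · exact hmix a b hab hra hrb
      · exact (hmix b a hab.symm hrb hra).symm
      · exact ⟨D₀, hD₀, (hB a haN hra).symm, hB b hbN hrb⟩
    · rintro ⟨x, hx, y, hy, hxy⟩
      have hcomp := components hlt hNG
      have hex : ∃ u ∈ Cfsg.relCharDegrees N, ∃ v ∈ Cfsg.relCharDegrees N,
          ¬ r ∣ u ∧ r ∣ v ∧ ¬ Conn N u v := by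
        rcases hcomp.2 x hx y hy hxy with ⟨h1, h2⟩ | ⟨h1, h2⟩
        · exact ⟨x, hx, y, hy, fun h => hr.ne_one (Nat.eq_one_of_dvd_coprimes h1 h hrm),
            h2 r hr hrm, hxy⟩
        · exact ⟨y, hy, x, hx, fun h => hr.ne_one (Nat.eq_one_of_dvd_coprimes h1 h hrm),
            h2 r hr hrm, fun h => hxy h.symm⟩
      obtain ⟨u, hu, v, hv, hru, hrv, huv⟩ := hex
      have hside : ∀ z ∈ Cfsg.relCharDegrees N, ¬ r ∣ z → Conn N z u := by
        intro z hz hrz
        rcases hcomp.1 u hu v hv z hz with h | h | h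
        · exact absurd h huv
        · exact h.symm
        · exfalso
          have hzu : ¬ Conn N z u := fun h' => huv ((h.trans h').symm)
          rcases hcomp.2 z hz u hu hzu with ⟨-, h2⟩ | ⟨-, h2⟩
          · exact hru (h2 r hr hrm)
          · exact hrz (h2 r hr hrm)
      have hfar : ∀ z ∈ Cfsg.relCharDegrees N, ¬ r ∣ z → ¬ Conn N z v := fun z hz hrz h =>
        huv ((hside z hz hrz).symm.trans h)
      by_cases hra : r ∣ a
      · by_cases hrb : r ∣ b
        · exact w2_of_near hbN (hrdvd hra hrb)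
        · exact absurd (hab.symm.trans ((hrdvd hra hrv).conn haN hv hNG)) (hfar b hbN hrb)
      have hrb : ¬ r ∣ b := fun h =>
        hfar a haN hra (hab.trans ((hrdvd h hrv).conn hbN hv hNG))
      rcases hcl haN hra with ⟨ν, hν, hν1, hνa⟩ | ⟨haK, hda⟩ <;>
        rcases hcl hbN hrb with ⟨μ, hμ, hμ1, hμb⟩ | ⟨hbK, hdb⟩
      · exact lin_w2 hno hr hexp hν hμ hν1 hμ1 (fun h => hra (h.trans hνa))
          (fun h => hrb (h.trans hμb)) hνa hμb hbN
      · obtain ⟨d, hd, hbd, hνd⟩ := hdb ν hν hν1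
        exact ⟨d, cd_mono hKN hd, near_of_dvd (index_stab_ne_one hno hν1) hνa hνd,
          Near.symm (Or.inr hbd)⟩
      · obtain ⟨d, hd, had, hμd⟩ := hda μ hμ hμ1
        exact ⟨d, cd_mono hKN hd, Or.inr had,
          near_of_dvd (index_stab_ne_one hno hμ1) hμd hμb⟩
      · have hvK : v ∈ Cfsg.relCharDegrees K := by
          by_contra h
          obtain ⟨f, hf, hf1, hfv⟩ := exists_over_annih hK hv h
          obtain ⟨d, hd, had, hfd⟩ := hda f hf hf1
          exact hfar a haN hra (((Near.conn (Or.inr had) haN (cd_mono hKN hd) hNG)).trans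
            ((near_of_dvd (index_stab_ne_one hno hf1) hfd hfv).conn (cd_mono hKN hd) hv hNG))
        obtain ⟨d, hd, had, hfd⟩ := hda f₀ hf₀ hf₀1
        obtain ⟨d', hd', hbd', hfd'⟩ := hdb f₀ hf₀ hf₀1
        have h1 := chain hbK haK d hd had d' hd' hbd' fun h =>
          index_stab_ne_one hno hf₀1 (Nat.eq_one_of_dvd_coprimes h hfd hfd')
        exact ((ihK a b h1).2 ⟨a, haK, v, hvK, fun h =>
          hfar a haN hra (conn_mono hKN h)⟩).mono hKN

end Cfsg.Agent.H41.RelDiam
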