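import Cfsg.Agent.H44.RelDegreeComponents

/-!
# Twists over a chief factor of the relative degree set

Translations of orbits on an elementary abelian group of linear characters, and the barycentre of
an orbit of twists whose length is prime to `r`.
-/

set_option autoImplicit false

namespace Cfsg.Agent.H41.RelDiam

open Cfsg.Agent.H44.RelGraph
open Cfsg.Agent.H44 (inertia mem_inertia)

variable {G : Type*} [Group G] [Finite G] {N : Subgroup G} [N.Normal]

/-- Equal, or with a common divisor. -/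
def Near (a b : ℕ) : Prop := a = b ∨ ¬ Nat.Coprime a b

theorem Near.symm {a b : ℕ} (h : Near a b) : Near b a :=
  h.imp Eq.symm fun h h' => h h'.symm

theorem near_of_dvd {a b k : ℕ} (hk : k ≠ 1) (ha : k ∣ a) (hb : k ∣ b) : Near a b :=
  Or.inr fun h => hk (Nat.eq_one_of_dvd_coprimes h ha hb)

/-- A nontrivial orbit size. -/
theorem index_stab_ne_one (hno : NoInvariant N) {f : N →* ℂˣ} (hf : f ≠ 1) :
    (stab N f).index ≠ 1 :=
  fun h => hf (hno f (Subgroup.index_eq_one.mp h))

theorem pow_eq_one_of_mem_annih {K : Subgroup G} [K.Normal] {r : ℕ}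
    (hexp : ∀ n ∈ N, n ^ r ∈ K) {f : N →* ℂˣ} (hf : f ∈ annih N K) : f ^ r = 1 :=
  MonoidHom.ext fun n => by
    rw [MonoidHom.pow_apply, ← map_pow]
    exact hf (n ^ r) (by rw [SubgroupClass.coe_pow]; exact hexp n n.2)

theorem mul_ne_one_of_coprime (hno : NoInvariant N) {f g : N →* ℂˣ} (hf : f ≠ 1)
    (h : Nat.Coprime (stab N f).index (stab N g).index) : f * g ≠ 1 := by
  intro he
  have hg : g = f⁻¹ := MonoidHom.ext fun n => by
    have := DFunLike.congr_fun he n
    rw [MonoidHom.mul_apply, MonoidHom.one_apply] at this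
    rw [MonoidHom.inv_apply, eq_inv_of_mul_eq_one_right this]
  rw [hg, stab_inv, Nat.coprime_self] at h
  exact index_stab_ne_one hno hf h

theorem conjHom_ne_one {f : N →* ℂˣ} (hf : f ≠ 1) (g : G) : conjHom N g f ≠ 1 := by
  intro h
  refine hf (MonoidHom.ext fun n => ?_)
  have := DFunLike.congr_fun h ((MulAut.conjNormal g).symm n)
  rwa [conjHom_apply, MulEquiv.apply_symm_apply] at this

theorem index_stab_conjHom (f : N →* ℂˣ) (g : G) :
    (stab N (conjHom N g f)).index = (stab N f).index := by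
  have h : stab N (conjHom N g f) = (stab N f).comap (MulAut.conj g).toMonoidHom := by
    ext x
    rw [Subgroup.mem_comap, mem_stab_iff_conjHom, mem_stab_iff_conjHom]
    show _ ↔ conjHom N (g * x * g⁻¹) f = f
    rw [conjHom_conjHom]
    constructor
    · intro h
      rw [← conjHom_conjHom N g⁻¹ (g * x) f, h, conjHom_conjHom, mul_inv_cancel, conjHom_one]
    · intro h
      conv_rhs => rw [← h]
      rw [conjHom_conjHom]
      congr 1
      group
  rw [h, Subgroup.index_comap_of_surjective _ (MulAut.conj g).surjective]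

/-- Orbits of coprime sizes: the product shares a prime with an orbit of size prime to `r` acted
on by translations of exponent `r`. -/
theorem not_coprime_mul (hno : NoInvariant N) {r : ℕ} (hr : r.Prime) {f g : N →* ℂˣ}
    (hfr : f ^ r = 1) (hf : f ≠ 1) (hrg : ¬ r ∣ (stab N g).index)
    (hab : Nat.Coprime (stab N f).index (stab N g).index) :
    ¬ Nat.Coprime (stab N f).index (stab N (f * g)).index := by
  classical
  intro hac
  have hcb : (stab N (f * g)).index = (stab N g).index :=
    index_eq_of_coprime hab hac (stab_inf_le_mul N f g) (stab_inf_le_mul' f g)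
  letI : MulAction G (N →* ℂˣ) :=
    { smul := fun a f => conjHom N a⁻¹ f
      one_smul := fun f => by
        show conjHom N (1 : G)⁻¹ f = f
        rw [inv_one, conjHom_one]
      mul_smul := fun a b f => by
        show conjHom N (a * b)⁻¹ f = conjHom N a⁻¹ (conjHom N b⁻¹ f)
        rw [conjHom_conjHom, mul_inv_rev] }
  have hsmul : ∀ (a : G) (u v : N →* ℂˣ), a • (u * v) = (a • u) * (a • v) :=
    fun a u v => conjHom_mul N a⁻¹ u v
  have hstab : ∀ u : N →* ℂˣ, MulAction.stabilizer G u = stab N u := fun u => by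
    ext a
    rw [MulAction.mem_stabilizer_iff, ← inv_mem_iff (H := stab N u), mem_stab_iff_conjHom]
    rfl
  have horb : ∀ u : N →* ℂˣ, (MulAction.orbit G u).ncard = (stab N u).index := fun u => by
    rw [← hstab, MulAction.index_stabilizer]
  have hpairs : MulAction.orbit G (f, g) = MulAction.orbit G f ×ˢ MulAction.orbit G g := by
    refine Set.eq_of_subset_of_ncard_le ?_ ?_ (Set.toFinite _)
    · rintro _ ⟨a, rfl⟩
      exact ⟨⟨a, rfl⟩, a, rfl⟩
    · rw [Set.ncard_prod, horb, horb, ← MulAction.index_stabilizer, ← index_inf_of_coprime hab]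
      refine le_of_eq (congrArg Subgroup.index ?_)
      ext a
      rw [Subgroup.mem_inf, ← hstab, ← hstab]
      simp only [MulAction.mem_stabilizer_iff, Prod.smul_mk, Prod.mk.injEq]
  have hstep : ∀ u ∈ MulAction.orbit G f,
      (fun v => u * v) '' MulAction.orbit G g = MulAction.orbit G (f * g) := by
    intro u hu
    refine Set.eq_of_subset_of_ncard_le ?_ ?_ (Set.toFinite _)
    · rintro _ ⟨v, hv, rfl⟩
      obtain ⟨a, ha⟩ : (u, v) ∈ MulAction.orbit G (f, g) := by rw [hpairs]; exact ⟨hu, hv⟩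
      obtain ⟨rfl, rfl⟩ := Prod.mk.inj (ha : (a • f, a • g) = (u, v))
      exact ⟨a, hsmul a f g⟩
    · rw [horb, hcb, ← horb g,
        Set.ncard_image_of_injective _ fun a b h => by
          simpa using congrArg (u⁻¹ * ·) h]
  obtain ⟨a, ha⟩ : ∃ a : G, a • f ≠ f := by
    by_contra h
    push Not at h
    refine hf (hno f (eq_top_iff.mpr fun a _ => ?_))
    rw [← hstab]
    exact h a
  set d := (a • f) * f⁻¹ with hd
  set O := MulAction.orbit G g with hO
  have hdO : ∀ v, v ∈ O → d * v ∈ O := by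
    intro v hv
    obtain ⟨w, hw, hwe⟩ : (a • f) * v ∈ (fun v => f * v) '' O := by
      rw [hstep f (MulAction.mem_orbit_self f), ← hstep _ (MulAction.mem_orbit f a)]
      exact ⟨v, hv, rfl⟩
    convert hw using 1
    refine MonoidHom.ext fun n => ?_
    have h := DFunLike.congr_fun hwe n
    simp only [MonoidHom.mul_apply] at h
    simp only [hd, MonoidHom.mul_apply, MonoidHom.inv_apply]
    rw [mul_right_comm, ← h, mul_comm (f n) (w n), mul_inv_cancel_right]
  have hd1 : d ≠ 1 := fun h => ha (mul_inv_eq_one.mp h)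
  have hord : orderOf d = r := by
    haveI := Fact.mk hr
    refine orderOf_eq_prime ?_ hd1
    refine MonoidHom.ext fun n => ?_
    simp only [hd, MonoidHom.pow_apply, MonoidHom.mul_apply, MonoidHom.inv_apply, mul_pow, inv_pow,
      MonoidHom.one_apply]
    have h2 : f n ^ r = 1 := DFunLike.congr_fun hfr n
    have h1 : (a • f) n ^ r = 1 := DFunLike.congr_fun hfr (MulAut.conjNormal a⁻¹ n)
    rw [h1, h2, inv_one, one_mul]
  set D := Subgroup.zpowers d
  have hDO : ∀ z ∈ D, ∀ v ∈ O, z * v ∈ O := by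
    intro z hz
    obtain ⟨i, hi⟩ := mem_powers_iff_mem_zpowers.mpr hz
    intro v hv
    subst hi
    clear hz
    induction i with
    | zero =>
      convert hv using 1
      exact MonoidHom.ext fun n => by simp
    | succ i ih =>
      convert hdO _ ih using 1
      refine MonoidHom.ext fun n => ?_
      simp only [MonoidHom.pow_apply, MonoidHom.mul_apply, pow_succ', mul_assoc]
  have hpre : O = QuotientGroup.mk ⁻¹' ((QuotientGroup.mk : (N →* ℂˣ) → _ ⧸ D) '' O) := by
    refine subset_antisymm (Set.subset_preimage_image _ _) ?_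
    rintro v ⟨w, hw, hwv⟩
    have := hDO _ (QuotientGroup.eq.mp hwv) w hw
    convert this using 1
    refine MonoidHom.ext fun n => ?_
    simp only [MonoidHom.mul_apply, MonoidHom.inv_apply]
    rw [mul_comm, mul_inv_cancel_left]
  apply hrg
  have h := Nat.card_congr (QuotientGroup.preimageMkEquivSubgroupProdSet D
    ((QuotientGroup.mk : (N →* ℂˣ) → _ ⧸ D) '' O))
  rw [← hpre, Nat.card_prod, Nat.card_coe_set_eq, Nat.card_zpowers, hord] at h
  rw [← horb g]
  exact Dvd.intro _ h.symm

variable [Fintype N]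

/-- A character lying over `θ` is not constant on `K` if `θ` is not. -/
theorem exists_ne_of_over {K : Subgroup G} [K.Normal] {χ : Cfsg.IrrCharacter G}
    {θ : Cfsg.IrrCharacter N} (h : Over N χ θ)
    (hθ : ∃ n : N, (n : G) ∈ K ∧ θ.1 n ≠ θ.1 1) : ∃ x ∈ K, χ.1 x ≠ χ.1 1 := by
  classical
  by_contra hcon
  push Not at hcon
  obtain ⟨n₀, hn₀, hne⟩ := hθ
  set K' := K.subgroupOf N with hK'
  haveI : Fintype (N ⧸ K') := Fintype.ofFinite _
  let F : N ⧸ K' → ℂ := fun q => χ.1 (q.out : G)
  have hF : ∀ n : N, F (n : N ⧸ K') = χ.1 n := fun n => by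
    obtain ⟨k, hk⟩ := QuotientGroup.mk_out_eq_mul K' n
    simp only [F, hk, Subgroup.coe_mul]
    exact H44.irr_mul_of_mem_kerOf (H44.mem_kerOf.2 (hcon _ k.2)) _
  have hFcl : Cfsg.IsClassFunction (N ⧸ K') F := by
    intro q s
    induction q using QuotientGroup.induction_on with
    | H a =>
    induction s using QuotientGroup.induction_on with
    | H b =>
      rw [← QuotientGroup.mk_mul, ← QuotientGroup.mk_inv, ← QuotientGroup.mk_mul, hF, hF]
      simp only [Subgroup.coe_mul, Subgroup.coe_inv]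
      exact H26.irr_conj χ _ _
  obtain ⟨η, hη⟩ : ∃ η : Cfsg.IrrCharacter (N ⧸ K'),
      Cfsg.classInner (H44.inflate K' η).1 θ.1 ≠ 0 := by
    by_contra hall
    push Not at hall
    apply h
    have hexp := H26.class_function_expansion F hFcl
    have : (fun n : N => χ.1 n) = ∑ η : Cfsg.IrrCharacter (N ⧸ K'),
        Cfsg.classInner F η.1 • (H44.inflate K' η).1 := funext fun n => by
      rw [← hF, congrFun hexp, Finset.sum_apply, Finset.sum_apply]
      rfl
    show Cfsg.classInner _ _ = 0
    rw [this]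
    generalize (fun η : Cfsg.IrrCharacter (N ⧸ K') => Cfsg.classInner F η.1) = co at *
    simp only [Cfsg.classInner, Finset.sum_apply, Pi.smul_apply, smul_eq_mul, Finset.sum_mul]
      at hall ⊢
    rw [Finset.sum_comm, Finset.mul_sum]
    refine Finset.sum_eq_zero fun η _ => ?_
    simp only [mul_assoc, ← Finset.mul_sum]
    rw [(mul_eq_zero.1 (hall η)).resolve_left (inv_ne_zero (Nat.cast_ne_zero.2 Nat.card_pos.ne'))]
    simp
  have he : H44.inflate K' η = θ := by
    by_contra hne'
    apply hη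
    rw [H26.classInner_irr, if_neg hne']
  apply hne
  rw [← he, H44.inflate_apply, H44.inflate_apply,
    (QuotientGroup.eq_one_iff n₀).2 (Subgroup.mem_subgroupOf.2 hn₀), QuotientGroup.mk_one]

/-- A linear constituent that is stable modulo `K` is trivial on `K`. -/
theorem mem_annih_of_stable (hno : NoInvariant N) {r : ℕ} (hr : r.Prime) {K : Subgroup G}
    [K.Normal] (hexp : ∀ n ∈ N, n ^ r ∈ K) {ν : N →* ℂˣ}
    (hfix : ∀ (g : G) (n : N), (n : G) ∈ K → conjHom N g ν n = ν n)
    (hrν : ¬ r ∣ (stab N ν).index) : ν ∈ annih N K := by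
  classical
  have hνr : ∀ n, ν n ^ r = 1 := by
    refine DFunLike.congr_fun (hno (ν ^ r) (eq_top_iff.mpr fun g _ => ?_))
    rw [mem_stab]
    intro n
    rw [MonoidHom.pow_apply, MonoidHom.pow_apply, ← map_pow, ← map_pow, ← map_pow]
    have := hfix g (n ^ r) (by rw [SubgroupClass.coe_pow]; exact hexp n n.2)
    rwa [conjHom_apply] at this
  set I := stab N ν with hI
  haveI := Fintype.ofFinite (G ⧸ I)
  let F : G ⧸ I → (N →* ℂˣ) := fun q => Quotient.liftOn' q (fun h => conjHom N h⁻¹ ν)
    fun h h' hh => by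
      rw [QuotientGroup.leftRel_apply] at hh
      have h1 := (mem_stab_iff_conjHom N).mp hh
      conv_rhs => rw [← h1, conjHom_conjHom]
      rw [show h⁻¹ * h' * h'⁻¹ = h⁻¹ by group]
  have hPi : ∏ q, F q = 1 := by
    refine hno _ (eq_top_iff.mpr fun g _ => ?_)
    rw [mem_stab]
    intro n
    rw [MonoidHom.finsetProd_apply, MonoidHom.finsetProd_apply]
    refine Fintype.prod_equiv (MulAction.toPerm g⁻¹) _ _ fun q => ?_
    induction q using QuotientGroup.induction_on with
    | H h =>
      show conjHom N h⁻¹ ν (MulAut.conjNormal g n) = conjHom N (g⁻¹ * h)⁻¹ ν n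
      rw [← conjHom_apply, conjHom_conjHom, mul_inv_rev, inv_inv]
  intro n hn
  have h1 : ν n ^ I.index = 1 := by
    have h := DFunLike.congr_fun hPi n
    rw [MonoidHom.finsetProd_apply, MonoidHom.one_apply] at h
    have hq : ∀ q, F q n = ν n := fun q => by
      induction q using QuotientGroup.induction_on with
      | H h => exact hfix _ n hn
    rwa [Finset.prod_congr rfl (fun q _ => hq q), Finset.prod_const, Finset.card_univ,
      ← Nat.card_eq_fintype_card] at h
  have := pow_gcd_eq_one.mpr ⟨h1, hνr n⟩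
  rwa [Nat.Coprime.symm (hr.coprime_iff_not_dvd.mpr hrν), pow_one] at this

/-- A degree prime to `r` either lies over the chief factor, or shares a prime with degrees
divisible by every orbit size on the chief factor. -/
theorem classify (hno : NoInvariant N) {r : ℕ} (hr : r.Prime) {K : Subgroup G} [K.Normal]
    (hK : ⁅N, N⁆ ≤ K) (hexp : ∀ n ∈ N, n ^ r ∈ K) {a : ℕ} (ha : a ∈ Cfsg.relCharDegrees N)
    (hra : ¬ r ∣ a) :
    (∃ ν ∈ annih N K, ν ≠ 1 ∧ (stab N ν).index ∣ a) ∨
      (a ∈ Cfsg.relCharDegrees K ∧ ∀ f ∈ annih N K, f ≠ 1 →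
        ∃ d ∈ Cfsg.relCharDegrees K, ¬ Nat.Coprime a d ∧ (stab N f).index ∣ d) := by
  classical
  haveI := Fact.mk hr
  obtain ⟨ψ, hker, rfl⟩ := ha
  obtain ⟨θ, hθ⟩ := exists_constituent (N := N) ψ
  have hθ1 := constituent_ne_one hθ hker
  have hdvd := index_mul_degree_dvd N hθ
  set K' := K.subgroupOf N with hK'
  haveI : Fintype K' := Fintype.ofFinite _
  have hQ : IsPGroup r (N ⧸ K') := fun q => by
    obtain ⟨n, rfl⟩ := QuotientGroup.mk_surjective q
    refine ⟨1, ?_⟩
    rw [pow_one, ← QuotientGroup.mk_pow, QuotientGroup.eq_one_iff, hK', Subgroup.mem_subgroupOf]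
    exact hexp n n.2
  obtain ⟨c₀, hc₀⟩ := IsPGroup.iff_card.mp hQ
  have hcop : Nat.Coprime (Cfsg.charDegree θ.1) K'.index := by
    rw [Subgroup.index, hc₀]
    exact Nat.Coprime.pow_right c₀ (Nat.Coprime.symm (hr.coprime_iff_not_dvd.mpr
      fun h => hra (h.trans ((Dvd.intro_left _ rfl).trans hdvd))))
  obtain ⟨φ, hφ⟩ := H43.exists_irr_restrict K' θ hcop
  have hirr : Cfsg.IsIrrCharacter K' (fun n : K' => θ.1 n) := by
    rw [show (fun n : K' => θ.1 n) = φ.1 from funext hφ]
    exact φ.2
  set T := restrStab K θ.1 with hT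
  set I := inertia N θ.1 with hI
  have hIT : ∀ η : Cfsg.IrrCharacter N, (∀ n : N, (n : G) ∈ K → η.1 n = θ.1 n) →
      inertia N η.1 ≤ T := fun η hη g hg n hn => by
    have h1 := congrFun ((mem_inertia N).mp hg) n
    show θ.1 _ = θ.1 n
    rw [← hη n hn, ← hη _ ((inferInstance : K.Normal).conj_mem _ hn g)]
    exact h1
  have hinj : ∀ f ∈ annih N K, ∀ f' ∈ annih N K,
      (∀ n, θ.1 n * (f n : ℂ) = θ.1 n * (f' n : ℂ)) → f = f' := by
    intro f hf f' hf' h3
    have h2 : f * f'⁻¹ = 1 := H45.linear_eq_one_of_mul_eq K' θ hirr _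
      (fun n hn => by
        rw [MonoidHom.mul_apply, MonoidHom.inv_apply, hf n hn, hf' n hn, inv_one, one_mul])
      (fun n => by
        rw [MonoidHom.mul_apply, MonoidHom.inv_apply, Units.val_mul, Units.val_inv_eq_inv_val]
        field_simp
        linear_combination h3 n)
    refine MonoidHom.ext fun n => ?_
    have := DFunLike.congr_fun h2 n
    rwa [MonoidHom.mul_apply, MonoidHom.inv_apply, MonoidHom.one_apply, mul_inv_eq_one] at this
  set k := T.index * Cfsg.charDegree (θ : N → ℂ) with hk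
  have hkdvd : k ∣ Cfsg.charDegree (ψ : G → ℂ) :=
    (Nat.mul_dvd_mul_right (Subgroup.index_dvd_of_le (hIT θ fun _ _ => rfl)) _).trans hdvd
  by_cases hk1 : k = 1
  · left
    obtain ⟨hTi, hdeg⟩ := mul_eq_one.mp hk1
    obtain ⟨ν, rfl⟩ := exists_linI hdeg
    have hfix : ∀ (g : G) (n : N), (n : G) ∈ K → conjHom N g ν n = ν n := fun g n hn => by
      have h1 := (Subgroup.index_eq_one.mp hTi ▸ Subgroup.mem_top g : g ∈ T) n hn
      rw [twist_linI, linI_apply, linI_apply, Units.val_inj] at h1
      exact h1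
    refine ⟨ν, mem_annih_of_stable hno hr hexp hfix fun h => hra (h.trans (stab_index_dvd N hθ)),
      fun h => hθ1 (by rw [h, linI_one]), stab_index_dvd N hθ⟩
  right
  have hnc : ∃ n : N, (n : G) ∈ K ∧ θ.1 n ≠ θ.1 1 := by
    by_contra hcon
    push Not at hcon
    apply hk1
    have hdeg : Cfsg.charDegree (θ : N → ℂ) = 1 := by
      have h1 := (H26.classInner_irr ⟨_, hirr⟩ ⟨_, hirr⟩)
      rw [if_pos rfl, Cfsg.classInner] at h1
      simp only [fun n : K' => hcon (n : N) (Subgroup.mem_subgroupOf.mp n.2),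
        ← H44.cast_charDegree θ, map_natCast, Finset.sum_const, Finset.card_univ,
        nsmul_eq_mul, ← Nat.card_eq_fintype_card] at h1
      rw [inv_mul_cancel_left₀ (Nat.cast_ne_zero.2 Nat.card_pos.ne')] at h1
      exact (mul_eq_one.mp (by exact_mod_cast h1 : _ * _ = 1)).1
    have hTtop : T = ⊤ := eq_top_iff.mpr fun g _ n hn => by
      show θ.1 _ = θ.1 n
      rw [hcon ⟨g * n * g⁻¹, _⟩ ((inferInstance : K.Normal).conj_mem _ hn g), hcon n hn]
    rw [hk, hdeg, hTtop, Subgroup.index_top]
  refine ⟨⟨ψ, exists_ne_of_over hθ hnc, rfl⟩, ?_⟩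
  -- the cocycle
  have hcex : ∀ t : T, ∃ c : N →* ℂˣ, c ∈ annih N K ∧
      ∀ n, H56.twist N θ.1 (t : G) n = θ.1 n * (c n : ℂ) := by
    intro t
    let η : Cfsg.IrrCharacter N := ⟨H56.twist N θ.1 (t : G), H56.isIrrCharacter_twist N θ.2 _⟩
    obtain ⟨c, hc, hη⟩ := H43.exists_hom_of_restrict_eq K' θ η φ hφ
      (fun n => by
        show H56.twist N θ.1 (t : G) n = φ.1 n
        rw [t.2 _ (Subgroup.mem_subgroupOf.mp n.2)]; exact hφ n)
    refine ⟨c, fun n hn => hc n (Subgroup.mem_subgroupOf.mpr hn), fun n => ?_⟩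
    show η.1 n = _
    rw [hη, H43.irrTwist_apply]
  choose c hc hct using hcex
  have hcm : ∀ s t : T, c (s * t) = c t * conjHom N (t : G) (c s) := by
    intro s t
    refine hinj _ (hc _) _ ((annih N K).mul_mem (hc t) (conjHom_mem_annih _ (hc s))) fun n => ?_
    rw [← hct, Subgroup.coe_mul, ← H56.twist_twist]
    let m : N := ⟨(t : G) * n * (t : G)⁻¹, (inferInstance : N.Normal).conj_mem _ n.2 _⟩
    have e2 : θ.1 m = θ.1 n * (c t n : ℂ) := hct t n
    have em : MulAut.conjNormal (t : G) n = m := Subtype.ext (MulAut.conjNormal_apply (t : G) n)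
    show H56.twist N θ.1 (s : G) m = _
    rw [MonoidHom.mul_apply, Units.val_mul, conjHom_apply, em, ← mul_assoc, ← e2]
    exact hct s m
  have hcI : ∀ s : T, (s : G) ∈ I → c s = 1 := fun s hs => hinj _ (hc _) _ (one_mem _) fun n => by
    rw [← hct, (mem_inertia N).mp hs, MonoidHom.one_apply, Units.val_one, mul_one]
  set Q := T ⧸ I.subgroupOf T
  haveI : Fintype Q := Fintype.ofFinite _
  let D : Q → (N →* ℂˣ) := fun q => Quotient.liftOn' q (fun h => c h⁻¹) fun h h' hh => by
    rw [QuotientGroup.leftRel_apply, Subgroup.mem_subgroupOf] at hh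
    show c h⁻¹ = c h'⁻¹
    have e : h⁻¹ = (h⁻¹ * h') * h'⁻¹ := by group
    rw [e, hcm, hcI _ hh]
    refine MonoidHom.ext fun n => ?_
    simp [MonoidHom.mul_apply, conjHom_apply]
  set o := Fintype.card Q with ho
  have hro : ¬ r ∣ o := by
    intro h
    apply hra
    refine h.trans (Dvd.dvd.trans ?_ hdvd)
    rw [ho, ← Nat.card_eq_fintype_card]
    exact ((Dvd.intro _ (Subgroup.relIndex_mul_index (hIT θ fun _ _ => rfl)))).trans
      (Dvd.intro _ rfl)
  obtain ⟨e, he⟩ : ∃ e : ℕ, o * e ≡ 1 [MOD r] := by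
    obtain ⟨y, -, hy⟩ := Nat.exists_mul_mod_eq_one_of_coprime
      (Nat.Coprime.symm (hr.coprime_iff_not_dvd.mpr hro)) hr.one_lt
    exact ⟨y, by rw [Nat.ModEq, hy, Nat.mod_eq_of_lt hr.one_lt]⟩
  set P := ∏ q, D q with hP
  set w := P ^ e with hw
  have hPann : P ∈ annih N K := (annih N K).prod_mem fun q _ => by
    induction q using QuotientGroup.induction_on with
    | H h => exact hc _
  have hwann : w ∈ annih N K := (annih N K).pow_mem hPann e
  have hwfix : ∀ t : T, c t * conjHom N (t : G) w = w := by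
    intro t
    refine MonoidHom.ext fun n => ?_
    have h1 : P n = c t n ^ o * P (MulAut.conjNormal (t : G) n) := by
      simp only [hP, MonoidHom.finsetProd_apply, ho, ← Finset.card_univ, ← Finset.prod_const,
        ← Finset.prod_mul_distrib]
      refine Fintype.prod_equiv (MulAction.toPerm t) _ _ fun q => ?_
      induction q using QuotientGroup.induction_on with
      | H h =>
        show c h⁻¹ n = c t n * c (t * h)⁻¹ (MulAut.conjNormal (t : G) n)
        rw [← conjHom_apply, ← MonoidHom.mul_apply, ← hcm]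
        congr 2
        group
    have hcr : c t n ^ r = 1 := DFunLike.congr_fun (pow_eq_one_of_mem_annih hexp (hc t)) n
    simp only [hw, MonoidHom.mul_apply, conjHom_apply, MonoidHom.pow_apply]
    conv_rhs => rw [h1, mul_pow, ← pow_mul, ← Nat.mod_add_div (o * e) r, pow_add, pow_mul, hcr,
      one_pow, mul_one, he, Nat.mod_eq_of_lt hr.one_lt, pow_one]
  intro f hf hf1
  set η := H43.irrTwist θ (w * f) with hη
  have hwf : w * f ∈ annih N K := (annih N K).mul_mem hwann hf
  have hηK : ∀ n : N, (n : G) ∈ K → η.1 n = θ.1 n := fun n hn => by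
    rw [hη, H43.irrTwist_apply, hwf n hn, Units.val_one, mul_one]
  have hηI : inertia N η.1 = T ⊓ stab N f := by
    have htw : ∀ t : T, H56.twist N η.1 (t : G) =
        fun n => θ.1 n * ((w * conjHom N (t : G) f) n : ℂ) := fun t => by
      rw [hη, twist_irrTwist]
      funext n
      rw [hct, mul_assoc, ← Units.val_mul, ← MonoidHom.mul_apply, conjHom_mul, ← mul_assoc,
        hwfix]
    ext g
    rw [Subgroup.mem_inf, mem_inertia, mem_stab_iff_conjHom]
    constructor
    · intro hg
      have hgT : g ∈ T := hIT η hηK hg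
      refine ⟨hgT, ?_⟩
      rw [htw ⟨g, hgT⟩] at hg
      exact mul_left_cancel (hinj _ ((annih N K).mul_mem hwann (conjHom_mem_annih g hf)) _ hwf
        fun n => (congrFun hg n).trans (H43.irrTwist_apply θ (w * f) n))
    · rintro ⟨hgT, hgf⟩
      rw [htw ⟨g, hgT⟩, hgf]
      exact funext fun n => (H43.irrTwist_apply θ (w * f) n).symm
  obtain ⟨χ, hχ⟩ := exists_over N η
  have hd := index_mul_degree_dvd N hχ
  rw [hηI, show Cfsg.charDegree (η : N → ℂ) = Cfsg.charDegree (θ : N → ℂ) from
    H43.charDegree_irrTwist θ _] at hd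
  have hnη : ∃ n : N, (n : G) ∈ K ∧ η.1 n ≠ η.1 1 := by
    obtain ⟨n, hn, hne⟩ := hnc
    exact ⟨n, hn, by rw [hηK n hn, hηK 1 K.one_mem]; exact hne⟩
  refine ⟨_, ⟨χ, exists_ne_of_over hχ hnη, rfl⟩, fun hc' => hk1 ?_, ?_⟩
  · exact Nat.eq_one_of_dvd_coprimes hc' hkdvd
      ((Nat.mul_dvd_mul_right (Subgroup.index_dvd_of_le inf_le_left) _).trans hd)
  · exact (Subgroup.index_dvd_of_le inf_le_right).trans ((Dvd.intro _ rfl).trans hd)

end Cfsg.Agent.H41.RelDiam
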